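import Cfsg.Agent.H25.Th.TableA
import Cfsg.Agent.H25.Th.Actions

/-!
The order bound and the equality test for `A = <a, c, d, e, s, t>`, in any group satisfying its relators.
-/

set_option autoImplicit false

namespace Cfsg.Agent.H25.Th

open Cfsg.Agent.H45

variable {G : Type*} [Group G] {e : ℕ → G}

/-- inverse letters agree with those of `A` and relators are relators of `A` -/
def subA (D : Dat) (R : List (List ℕ)) : Bool :=
  Nat.ble D.L 8 && (List.range D.L).all (fun l => Nat.beq (linv D.iv l) (linv ivA l)) &&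
    D.R.all fun w => decide (w ∈ R)

theorem step_bound {D : Dat} {R : List (List ℕ)} {L' n m : ℕ} {tree : List ℕ} {bs : List Blk}
    (hsub : subA D R = true) (hi : ∀ l, l < 8 → e (linv ivA l) = (e l)⁻¹)
    (hR : ∀ w ∈ R, evalW e w = 1) (hok : datOK D L' = true)
    (hlt : ltAll D.L n D.cols = true) (hn : 0 < n) (hc : closeCheck D n tree bs = true)
    (hm : Finite (upTo e L') ∧ Nat.card (upTo e L') ≤ m) :
    Finite (upTo e D.L) ∧ Nat.card (upTo e D.L) ≤ n * m := by
  simp only [subA, Bool.and_eq_true, List.all_eq_true, decide_eq_true_eq, Nat.ble_eq,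
    Nat.beq_eq] at hsub
  obtain ⟨⟨hL, hiv⟩, hsubR⟩ := hsub
  refine table_bound hok (fun l hl => ?_) (fun w hw => hR w (hsubR w hw)) hlt hn hc hm
  rw [hiv l (List.mem_range.mpr hl), hi l (by omega)]

theorem bot_bound (e : ℕ → G) : Finite (upTo e 0) ∧ Nat.card (upTo e 0) ≤ 1 := by
  rw [upTo_zero]
  exact ⟨inferInstance, le_of_eq Subgroup.card_bot⟩

theorem L_bound (hi : ∀ l, l < 8 → e (linv ivA l) = (e l)⁻¹)
    (hR : ∀ w ∈ relA, evalW e w = 1) : Finite (upTo e 6) ∧ Nat.card (upTo e 6) ≤ 1512 :=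
  have h2 := step_bound (D := datTD) (L' := 0) (by decide +kernel) hi hR (by decide +kernel) ltTD
    (by norm_num) closeTD (bot_bound e)
  (step_bound (D := datTL) (L' := 2) (by decide +kernel) hi hR (by decide +kernel) ltTL
    (by norm_num) closeTL h2).imp_right fun h => h.trans (by norm_num)

/-- the bound without the further relator -/
theorem A0_bound (hi : ∀ l, l < 8 → e (linv ivA l) = (e l)⁻¹)
    (hR : ∀ w ∈ relA, evalW e w = 1) : Finite (upTo e 8) ∧ Nat.card (upTo e 8) ≤ 1548288 :=
  (step_bound (D := datTA0) (L' := 6) (by decide +kernel) hi hR (by decide +kernel) ltTA0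
    (by norm_num) closeTA0 (L_bound hi hR)).imp_right fun h => h.trans (by norm_num)

/-- the bound with the further relator -/
theorem A_bound (hi : ∀ l, l < 8 → e (linv ivA l) = (e l)⁻¹)
    (hR : ∀ w ∈ relA ++ [r0], evalW e w = 1) :
    Finite (upTo e 8) ∧ Nat.card (upTo e 8) ≤ 774144 :=
  (step_bound (D := datTA) (L' := 6) (by decide +kernel) hi hR (by decide +kernel) ltTA
    (by norm_num) closeTA
    (L_bound hi fun w hw => hR w (List.mem_append_left _ hw))).imp_right fun h => h.trans (by norm_num)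

/-- equality test without the further relator -/
theorem eq_of_walks1024 (hi : ∀ l, l < 8 → e (linv ivA l) = (e l)⁻¹)
    (hR : ∀ w ∈ relA, evalW e w = 1) {u v : List ℕ} (hu : ∀ l ∈ u, l < 8) (hv : ∀ l ∈ v, l < 8)
    (hw : ∀ lv ∈ chain1024, walkT cols1024 u lv.base = walkT cols1024 v lv.base) :
    evalW e u = evalW e v :=
  eq_of_walks (permCheck_PT perm1024) (A0_bound (pairE_inv _ hi) (pairE_rel perm1024 hR))
    chain1024_ok chain1024_prod hu hv hw

/-- equality test with the further relator -/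
theorem eq_of_walksA (hi : ∀ l, l < 8 → e (linv ivA l) = (e l)⁻¹)
    (hR : ∀ w ∈ relA ++ [r0], evalW e w = 1) {u v : List ℕ} (hu : ∀ l ∈ u, l < 8)
    (hv : ∀ l ∈ v, l < 8)
    (hw : ∀ lv ∈ chainA, walkT cols819 u lv.base = walkT cols819 v lv.base) :
    evalW e u = evalW e v :=
  eq_of_walks (permCheck_PT permA) (A_bound (pairE_inv _ hi) (pairE_rel permA hR))
    chainA_ok chainA_prod hu hv hw

end Cfsg.Agent.H25.Th
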