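import Cfsg.Agent.H25.Th.BoundA

/-!
Comparison of words by the images of base points.
-/

set_option autoImplicit false

namespace Cfsg.Agent.H25.Th

open Cfsg.Agent.H45

/-- follow a word, evaluating as it goes -/
noncomputable def walkV (cols : List ℕ) (w : List ℕ) (p : ℕ) : ℕ :=
  walkC (w.map fun l => cols.getD l 0) p

/-- the same images of all base points -/
noncomputable def sameBase (cols : List ℕ) (lvs : List Lvl) (u v : List ℕ) : Bool :=
  lvs.all fun lv => Nat.beq (walkV cols u lv.base) (walkV cols v lv.base)

theorem sameBase_sound {cols : List ℕ} {lvs : List Lvl} {u v : List ℕ}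
    (h : sameBase cols lvs u v = true) :
    ∀ lv ∈ lvs, walkT cols u lv.base = walkT cols v lv.base := by
  intro lv hlv
  have h1 := List.all_eq_true.mp h lv hlv
  simpa only [walkV, walkC_map, Nat.beq_eq] using h1

/-- comparison in `A` without the further relator -/
noncomputable def cmp1024 (u v : List ℕ) : Bool := sameBase cols1024 chain1024 u v

end Cfsg.Agent.H25.Th
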