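import Cfsg.Agent.H25.Th.Closure
import Cfsg.Agent.H25.Th.Compare
import Cfsg.Agent.H25.Th.SegM0

/-!
The order bound for `C = <a, c, d, e, s, t, u>` and the further relator of `A`.
-/

set_option autoImplicit false
set_option maxRecDepth 100000

namespace Cfsg.Agent.H25.Th

open Cfsg.Agent.H45

variable {G : Type*} [Group G] {e : ℕ → G}

/-- inverse letters of `C` in its own numbering -/
def ivC : List ℕ := [0, 1, 3, 2, 5, 4, 6, 7, 9, 8]

/-- the assumptions on the letters of `C` -/
def CLetters (e : ℕ → G) : Prop :=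
  (∀ l, l < 10 → e (linv ivC l) = (e l)⁻¹) ∧ ∀ w ∈ datM.R, evalW e w = 1

theorem datM_relA : relA.all (fun w => decide (w ∈ datM.R)) = true := by decide +kernel

theorem CLetters.invA (h : CLetters e) : ∀ l, l < 8 → e (linv ivA l) = (e l)⁻¹ := by
  intro l hl
  rw [← h.1 l (by omega)]
  interval_cases l <;> rfl

theorem CLetters.relA (h : CLetters e) : ∀ w ∈ relA, evalW e w = 1 :=
  fun w hw => h.2 w (of_decide_eq_true (List.all_eq_true.mp datM_relA w hw))

theorem datM_ok : datM.dataOK = true := by decide +kernel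

theorem datM_sound (h : CLetters e) : datM.Sound e ⊥ cmp1024 where
  data := datM_ok
  invl := h.1
  rel := h.2
  norm := fun l _ x hx => by simp [Subgroup.mem_bot.mp hx]
  cmp := fun u v hu hv hc => by
    rw [Subgroup.mem_bot, mul_inv_eq_one]
    exact eq_of_walks1024 h.invA h.relA hu hv (sameBase_sound hc)

theorem factsM (h : CLetters e) : ∀ j, j < 1856 → FD.FOK datM e ⊥ j := by
  intro j hj
  exact FD.checkSeg_sound (datM_sound h) segM0 0 (fun k hk => absurd hk (by omega)) segM0_ok j
    (by rw [segM0_len]; omega)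

theorem loopM : (Nat.beq (datM.fp 1855) (datM.fq 1855) && Nat.beq (datM.fl 1855) 10 &&
    r0.all (fun l => Nat.blt l 8) && cmp1024 (datM.flab 1855) r0) = true := by decide +kernel

/-- the further relator of `A` holds in `C` -/
theorem r0_eq_one (h : CLetters e) : evalW e r0 = 1 := by
  have hl := loopM
  simp only [Bool.and_eq_true, Nat.beq_eq, List.all_eq_true, blt_iff] at hl
  obtain ⟨⟨⟨hp, hfl⟩, hr⟩, hc⟩ := hl
  have h1 := factsM h 1855 (by omega)
  have hlow := (FD.data_spec datM_ok).2.2.2.2.2 1855
  have h2 := (datM_sound h).cmp _ _ hlow hr hc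
  unfold FD.FOK FD.Rel at h1
  rw [hp, hfl, trim, if_neg (by decide), mul_one, mul_inv_cancel, one_mul, Subgroup.mem_bot,
    inv_eq_one] at h1
  rw [Subgroup.mem_bot, h1, one_mul, inv_eq_one] at h2
  exact h2

theorem CLetters.relA1 (h : CLetters e) : ∀ w ∈ Cfsg.Agent.H25.Th.relA ++ [r0], evalW e w = 1 := by
  intro w hw
  rcases List.mem_append.mp hw with hw | hw
  · exact h.relA w hw
  · rw [List.mem_singleton.mp hw]; exact r0_eq_one h

theorem edgesM_ok : datM.edgeRows colsM liveM edgesM 1856 120 = true := by decide +kernel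

theorem liveM_zero : pget 20 liveM 0 = 0 := by decide +kernel

theorem ltM : ltAll 10 120 colsM = true := by decide +kernel

theorem C_card (h : CLetters e) :
    (∀ g ∈ upTo e 10, ∃ i, i < 120 ∧ g * (datM.X e (pget 20 liveM i))⁻¹ ∈ upTo e 8) ∧
      Finite (upTo e 10) ∧ Nat.card (upTo e 10) ≤ 92897280 := by
  have := FD.closed_card (cols := colsM) (datM_sound h) bot_le (factsM h) edgesM_ok (by norm_num)
    liveM_zero ltM (A_bound h.invA h.relA1)
  exact ⟨this.1, this.2.1, this.2.2.trans (by norm_num)⟩

/-- the exact effect of a letter on a coset representative -/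
theorem C_edge (h : CLetters e) {i l : ℕ} (hi : i < 120) (hl : l < 10) :
    datM.X e (pget 20 liveM i) * e l =
      evalW e (datM.edgeLab (pget 21 edgesM (i * 10 + l))) *
        datM.X e (pget 20 liveM (tget colsM i l)) := by
  have := FD.edge_rel (D := datM) (datM_sound h) (factsM h) edgesM_ok hi
    (show l < datM.L from hl)
  unfold FD.Rel at this
  rw [Subgroup.mem_bot, mul_inv_eq_one, mul_inv_eq_iff_eq_mul] at this
  exact this

end Cfsg.Agent.H25.Th
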