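import Cfsg.Agent.H25.Th.Closure
import Cfsg.Agent.H25.Th.Compare
import Cfsg.Agent.H25.Th.SegHh0
import Cfsg.Agent.H25.Th.SegHh1
import Cfsg.Agent.H25.Th.SegHh2
import Cfsg.Agent.H25.Th.SegHh3
import Cfsg.Agent.H25.Th.SegHh4
import Cfsg.Agent.H25.Th.SegHh5
import Cfsg.Agent.H25.Th.SegHh6
import Cfsg.Agent.H25.Th.SegHh7
import Cfsg.Agent.H25.Th.SegHh8
import Cfsg.Agent.H25.Th.SegHh9
import Cfsg.Agent.H25.Th.SegHh10
import Cfsg.Agent.H25.Th.SegHh11
import Cfsg.Agent.H25.Th.SegHh12

/-!
The order bound and the equality test for `H = <a, b, c, d, e, s, t>`.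
-/

set_option autoImplicit false
set_option maxRecDepth 100000

namespace Cfsg.Agent.H25.Th

open Cfsg.Agent.H45

variable {G : Type*} [Group G] {e : ℕ → G}

/-- the assumptions on the letters of `H` -/
def HLetters (e : ℕ → G) : Prop :=
  (∀ l, l < 9 → e (linv ivH l) = (e l)⁻¹) ∧ ∀ w ∈ relH ++ [r0], evalW e w = 1

theorem datHh_rels : (datHh.R.all (fun w => decide (w ∈ relH ++ [r0])) &&
    (relA ++ [r0]).all (fun w => decide (w ∈ relH ++ [r0]))) = true := by decide +kernel

theorem HLetters.invA (h : HLetters e) : ∀ l, l < 8 → e (linv ivA l) = (e l)⁻¹ := by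
  intro l hl
  rw [← h.1 l (by omega)]
  interval_cases l <;> rfl

theorem HLetters.relA1 (h : HLetters e) : ∀ w ∈ relA ++ [r0], evalW e w = 1 := by
  have h2 := datHh_rels
  rw [Bool.and_eq_true] at h2
  exact fun w hw => h.2 w (of_decide_eq_true (List.all_eq_true.mp h2.2 w hw))

theorem datHh_ok : datHh.dataOK = true := by decide +kernel

theorem datHh_sound (h : HLetters e) : datHh.Sound e (upTo e 8) (fun _ _ => true) where
  data := datHh_ok
  invl := h.1
  rel := by
    have h2 := datHh_rels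
    rw [Bool.and_eq_true] at h2
    exact fun w hw => h.2 w (of_decide_eq_true (List.all_eq_true.mp h2.1 w hw))
  norm := fun l hl x hx => mul_mem (mul_mem (mem_upTo hl) hx) (inv_mem (mem_upTo hl))
  cmp := fun u v hu hv _ => mul_mem (evalW_mem_upTo hu) (inv_mem (evalW_mem_upTo hv))

theorem factsH (h : HLetters e) : ∀ j, j < 25827 → FD.FOK datHh e (upTo e 8) j := by
  have h1 : ∀ k, k < 2000 → FD.FOK datHh e (upTo e 8) k := fun k hk =>
    FD.checkSeg_sound (datHh_sound h) segHh0 0 (fun k hk => absurd hk (by omega)) segHh0_ok k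
      (by rw [segHh0_len]; omega)
  have h2 : ∀ k, k < 4000 → FD.FOK datHh e (upTo e 8) k := fun k hk =>
    FD.checkSeg_sound (datHh_sound h) segHh1 2000 h1 segHh1_ok k
      (by rw [segHh1_len]; omega)
  have h3 : ∀ k, k < 6000 → FD.FOK datHh e (upTo e 8) k := fun k hk =>
    FD.checkSeg_sound (datHh_sound h) segHh2 4000 h2 segHh2_ok k
      (by rw [segHh2_len]; omega)
  have h4 : ∀ k, k < 8000 → FD.FOK datHh e (upTo e 8) k := fun k hk =>
    FD.checkSeg_sound (datHh_sound h) segHh3 6000 h3 segHh3_ok k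
      (by rw [segHh3_len]; omega)
  have h5 : ∀ k, k < 10000 → FD.FOK datHh e (upTo e 8) k := fun k hk =>
    FD.checkSeg_sound (datHh_sound h) segHh4 8000 h4 segHh4_ok k
      (by rw [segHh4_len]; omega)
  have h6 : ∀ k, k < 12000 → FD.FOK datHh e (upTo e 8) k := fun k hk =>
    FD.checkSeg_sound (datHh_sound h) segHh5 10000 h5 segHh5_ok k
      (by rw [segHh5_len]; omega)
  have h7 : ∀ k, k < 14000 → FD.FOK datHh e (upTo e 8) k := fun k hk =>
    FD.checkSeg_sound (datHh_sound h) segHh6 12000 h6 segHh6_ok k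
      (by rw [segHh6_len]; omega)
  have h8 : ∀ k, k < 16000 → FD.FOK datHh e (upTo e 8) k := fun k hk =>
    FD.checkSeg_sound (datHh_sound h) segHh7 14000 h7 segHh7_ok k
      (by rw [segHh7_len]; omega)
  have h9 : ∀ k, k < 18000 → FD.FOK datHh e (upTo e 8) k := fun k hk =>
    FD.checkSeg_sound (datHh_sound h) segHh8 16000 h8 segHh8_ok k
      (by rw [segHh8_len]; omega)
  have h10 : ∀ k, k < 20000 → FD.FOK datHh e (upTo e 8) k := fun k hk =>
    FD.checkSeg_sound (datHh_sound h) segHh9 18000 h9 segHh9_ok k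
      (by rw [segHh9_len]; omega)
  have h11 : ∀ k, k < 22000 → FD.FOK datHh e (upTo e 8) k := fun k hk =>
    FD.checkSeg_sound (datHh_sound h) segHh10 20000 h10 segHh10_ok k
      (by rw [segHh10_len]; omega)
  have h12 : ∀ k, k < 24000 → FD.FOK datHh e (upTo e 8) k := fun k hk =>
    FD.checkSeg_sound (datHh_sound h) segHh11 22000 h11 segHh11_ok k
      (by rw [segHh11_len]; omega)
  have h13 : ∀ k, k < 25827 → FD.FOK datHh e (upTo e 8) k := fun k hk =>
    FD.checkSeg_sound (datHh_sound h) segHh12 24000 h12 segHh12_ok k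
      (by rw [segHh12_len]; omega)
  exact h13

theorem edgesHh_ok : datHh.edgeRows colsHh liveHh edgesHh 25827 819 = true := by decide +kernel

theorem liveHh_zero : pget 20 liveHh 0 = 0 := by decide +kernel

theorem ltHh : ltAll 9 819 colsHh = true := by decide +kernel

theorem H_card (h : HLetters e) :
    (∀ g ∈ upTo e 9, ∃ i, i < 819 ∧ g * (datHh.X e (pget 20 liveHh i))⁻¹ ∈ upTo e 8) ∧
      Finite (upTo e 9) ∧ Nat.card (upTo e 9) ≤ 634023936 := by
  have := FD.closed_card (cols := colsHh) (datHh_sound h) le_rfl (factsH h) edgesHh_ok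
    (by norm_num) liveHh_zero ltHh (A_bound h.invA h.relA1)
  exact ⟨this.1, this.2.1, this.2.2.trans (by norm_num)⟩

/-- the effect of a letter on a coset of `A` in `H` -/
theorem H_edge (h : HLetters e) {i l : ℕ} (hi : i < 819) (hl : l < 9) :
    datHh.X e (pget 20 liveHh i) * e l * (datHh.X e (pget 20 liveHh (tget colsHh i l)))⁻¹ ∈
      upTo e 8 := by
  have := FD.edge_rel (D := datHh) (datHh_sound h) (factsH h) edgesHh_ok hi
    (show l < datHh.L from hl)
  simpa using mul_mem this (evalW_mem_upTo (e := e) (FD.edgeLab_low (datHh_sound h) (pget 21 edgesHh (i * datHh.L + l))))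

/-- words with the same images of the base have the same value -/
theorem eq_of_walksH (h : HLetters e) {u v : List ℕ} (hu : ∀ l ∈ u, l < 9)
    (hv : ∀ l ∈ v, l < 9)
    (hw : ∀ lv ∈ chainH, walkT cols819 u lv.base = walkT cols819 v lv.base) :
    evalW e u = evalW e v :=
  eq_of_walks (permCheck_PT permH)
    (H_card ⟨pairE_inv _ h.1, pairE_rel permH h.2⟩).2 chainH_ok chainH_prod hu hv hw

end Cfsg.Agent.H25.Th
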