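import Cfsg.Agent.H25.Th.Nodes
import Cfsg.Agent.H40.Th.Table

/-!
The centraliser of `a` in the presented Thompson group is `<a, c, d, e, s, t, u>`.
-/

set_option autoImplicit false

namespace Cfsg.Agent.H25.Th

open Cfsg.Agent.H40.Th

attribute [local irreducible] Cfsg.Agent.H32.ThRep.rep248 rowOK nodeOK

/-- the word of the trivial double coset is empty -/
theorem cWord_zero : cWord 0 = [] := by decide +kernel

/-- the centraliser of `a` -/
theorem centralizer_a : Subgroup.centralizer {Cfsg.Agent.H40.Th.gen .a} = Cfsg.Agent.H40.Th.CC :=
  centralizer_eq_of_doubleCoset (fun i : Fin 13 => wval (cWord i)) 0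
    (show wval (cWord 0) = 1 by rw [cWord_zero]; rfl) CC_le_centralizer
    (centralizer_inf_HH Cfsg.Agent.H40.Th.hH)
    (fun x => by
      obtain ⟨i, hi, h, hh, c, hc, hx⟩ := cover x
      exact ⟨⟨i, hi⟩, h, hh, c, hc, hx⟩)
    (fun i hi h hh => by
      fin_cases i
      · exact absurd rfl hi
      · exact node_sound node1_ok hh
      · exact row_sound node2_ok hh
      · exact row_sound node3_ok hh
      · exact row_sound node4_ok hh
      · exact row_sound node5_ok hh
      · exact row_sound node6_ok hh
      · exact row_sound node7_ok hh
      · exact row_sound node8_ok hh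
      · exact row_sound node9_ok hh
      · exact row_sound node10_ok hh
      · exact row_sound node11_ok hh
      · exact row_sound node12_ok hh)

end Cfsg.Agent.H25.Th
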