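import Cfsg.Agent.H25.Th.Facts

/-!
A closed table of coset facts bounds the order of the group generated by the letters.
-/

set_option autoImplicit false

namespace Cfsg.Agent.H25.Th

open Cfsg.Agent.H45

namespace FD

variable (D : FD)

/-- the label of an edge given by a fact and a direction -/
def edgeLab (v : ℕ) : List ℕ :=
  bif Nat.beq (v &&& 1) 1 then D.flab (v >>> 1) else (D.flab (v >>> 1)).reverse.map (linv D.iv)

/-- check one edge of the table -/
noncomputable def edgeOne (cols live edges : List ℕ) (N i l : ℕ) : Bool :=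
  force (pget 21 edges (i * D.L + l)) fun v => force (v >>> 1) fun k =>
    force (pget 20 live i) fun x => force (pget 20 live (tget cols i l)) fun y =>
      Nat.blt k N && bif Nat.beq (v &&& 1) 1 then
        Nat.beq (D.fp k) x && Nat.beq (D.fl k) l && Nat.beq (D.fq k) y
      else Nat.beq (D.fp k) y && Nat.beq (D.fl k) (linv D.iv l) && Nat.beq (D.fq k) x

/-- check the edges of rows below `m` -/
noncomputable def edgeRows (cols live edges : List ℕ) (N : ℕ) : ℕ → Bool
  | 0 => true
  | i + 1 => ((List.range D.L).all fun l => D.edgeOne cols live edges N i l) &&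
      edgeRows cols live edges N i

theorem edgeRows_spec {cols live edges : List ℕ} {N : ℕ} : ∀ {m : ℕ},
    D.edgeRows cols live edges N m = true → ∀ i, i < m → ∀ l, l < D.L →
      D.edgeOne cols live edges N i l = true := by
  intro m
  induction m with
  | zero => intro _ i hi; omega
  | succ m ih =>
    intro h i hi l hl
    simp only [edgeRows, Bool.and_eq_true] at h
    rcases Nat.lt_succ_iff_lt_or_eq.mp hi with hi | rfl
    · exact ih h.2 i hi l hl
    · exact range_all h.1 hl

variable {D} {G : Type*} [Group G] {e : ℕ → G} {K : Subgroup G} {cmp : List ℕ → List ℕ → Bool}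

theorem edgeLab_low (h : D.Sound e K cmp) (v : ℕ) : Low (D.edgeLab v) := by
  unfold edgeLab
  cases Nat.beq (v &&& 1) 1 <;> simp only [cond_true, cond_false]
  · exact low_map h ((data_spec h.data).2.2.2.2.2 _).reverse
  · exact (data_spec h.data).2.2.2.2.2 _

theorem edge_rel (h : D.Sound e K cmp) {cols live edges : List ℕ} {N n : ℕ}
    (hf : ∀ j, j < N → FOK D e K j) (he : D.edgeRows cols live edges N n = true)
    {i l : ℕ} (hi : i < n) (hl : l < D.L) :
    Rel K e (D.X e (pget 20 live i) * e l * (D.X e (pget 20 live (tget cols i l)))⁻¹)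
      (D.edgeLab (pget 21 edges (i * D.L + l))) := by
  have h1 := D.edgeRows_spec he i hi l hl
  simp only [edgeOne, H45.force_eq, Bool.and_eq_true, blt_iff] at h1
  obtain ⟨hk, h1⟩ := h1
  have h2 := hf _ hk
  unfold FOK at h2
  unfold edgeLab
  cases hd : Nat.beq (pget 21 edges (i * D.L + l) &&& 1) 1 <;>
    simp only [hd, cond_true, cond_false, Bool.and_eq_true, Nat.beq_eq] at h1 ⊢
  · obtain ⟨⟨hp, hfl⟩, hq⟩ := h1
    have h3 := rel_inv h ((data_spec h.data).2.2.2.2.2 _) h2
    have hl' := (data_spec h.data).2.2.1 l hl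
    rw [hp, hfl, hq, trim_of_lt hl', h.invl l hl] at h3
    convert h3 using 1
    group
  · obtain ⟨⟨hp, hfl⟩, hq⟩ := h1
    rwa [hp, hfl, hq, trim_of_lt hl] at h2

theorem closed_card (h : D.Sound e K cmp) (hKA : K ≤ upTo e 8) {cols live edges : List ℕ}
    {N n m : ℕ} (hf : ∀ j, j < N → FOK D e K j) (he : D.edgeRows cols live edges N n = true)
    (hn : 0 < n) (h0 : pget 20 live 0 = 0) (hlt : ltAll D.L n cols = true)
    (hA : Finite (upTo e 8) ∧ Nat.card (upTo e 8) ≤ m) :
    (∀ g ∈ upTo e D.L, ∃ i, i < n ∧ g * (D.X e (pget 20 live i))⁻¹ ∈ upTo e 8) ∧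
      Finite (upTo e D.L) ∧ Nat.card (upTo e D.L) ≤ n * m := by
  have hw : ∀ i, i < n → ∀ l, l < D.L →
      D.X e (pget 20 live i) * e l * (D.X e (pget 20 live (tget cols i l)))⁻¹ ∈ upTo e 8 := by
    intro i hi l hl
    have h1 := hKA (edge_rel h hf he hi hl)
    simpa using mul_mem h1 (evalW_mem_upTo (e := e) (edgeLab_low h (pget 21 edges (i * D.L + l))))
  have hex := cosets_exhaust (iv := D.iv) (L := D.L) (e := e) (H := upTo e 8) (cols := cols)
    (w := fun i => D.X e (pget 20 live i)) (le_rfl : upTo e D.L ≤ _)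
    (fun l hl => ⟨(data_spec h.data).2.2.1 l hl, h.invl l hl⟩) (ltAll_sound hlt) hn
    (by simp [h0, X_zero]) hw
  have := hA.1
  exact ⟨hex, card_le_of_cosets hex hA.2⟩

end FD

end Cfsg.Agent.H25.Th
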