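import Cfsg.Agent.H25.Th.Oracle

/-!
Certificates of coset facts with labels: a fact `(p, l, q, w)` says that `X_p e_l X_q⁻¹` is the value of
the label `w`, up to a subgroup normalised by the label letters.  Every fact is checked by itself
against facts with smaller numbers.
-/

set_option autoImplicit false

namespace Cfsg.Agent.H25.Th

open Cfsg.Agent.H45

/-- record `i` of width `w` in chunks of 256 -/
def pget (w : ℕ) (cs : List ℕ) (i : ℕ) : ℕ :=
  ((cs.getD (i >>> 8) 0) >>> ((i &&& 255) * w)) &&& (2 ^ w - 1)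

/-- the fields of a packed word of width `w` (stored increased by one, zero-terminated) -/
def fields (w : ℕ) : ℕ → ℕ → List ℕ
  | 0, _ => []
  | fuel + 1, c => bif Nat.beq c 0 then [] else ((c &&& (2 ^ w - 1)) - 1) :: fields w fuel (c >>> w)

/-- evaluate the fields of a packed word -/
noncomputable def withFields (w : ℕ) : ℕ → ℕ → (List ℕ → Bool) → Bool
  | 0, _, _ => false
  | fuel + 1, c, k =>
    bif Nat.beq c 0 then k []
    else force ((c &&& (2 ^ w - 1)) - 1) fun x => force (c >>> w) fun c' =>
      withFields w fuel c' fun r => k (x :: r)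

theorem withFields_eq (w : ℕ) : ∀ (fuel c : ℕ) (k : List ℕ → Bool),
    withFields w fuel c k = true → k (fields w fuel c) = true := by
  intro fuel
  induction fuel with
  | zero => intro c k h; simp [withFields] at h
  | succ fuel ih =>
    intro c k h
    unfold withFields at h
    unfold fields
    cases hb : Nat.beq c 0
    · simp only [hb, cond_false, force_eq] at h ⊢
      exact ih _ _ h
    · simp only [hb, cond_true] at h ⊢
      exact h

theorem fields_zero (w fuel : ℕ) : fields w fuel 0 = [] := by
  cases fuel <;> rfl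

/-- equality of lists of numbers -/
def beqL : List ℕ → List ℕ → Bool
  | [], [] => true
  | a :: u, b :: v => Nat.beq a b && beqL u v
  | _, _ => false

theorem beqL_eq : ∀ {u v : List ℕ}, beqL u v = true → u = v := by
  intro u
  induction u with
  | nil => intro v h; cases v <;> simp [beqL] at h ⊢
  | cons a u ih =>
    intro v h
    cases v with
    | nil => simp [beqL] at h
    | cons b v =>
      simp only [beqL, Bool.and_eq_true, Nat.beq_eq] at h
      rw [h.1, ih h.2]

/-- data of a fact certificate -/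
structure FD where
  L : ℕ
  iv : List ℕ
  R : List (List ℕ)
  facts : List ℕ
  par : List ℕ
  labs : List ℕ

namespace FD

variable (D : FD)

/-- the record of a fact -/
def rec_ (i : ℕ) : ℕ := pget 64 D.facts i

/-- source node -/
def fp (i : ℕ) : ℕ := D.rec_ i &&& 1048575

/-- letter (`L` for the empty word) -/
def fl (i : ℕ) : ℕ := (D.rec_ i >>> 20) &&& 15

/-- target node -/
def fq (i : ℕ) : ℕ := (D.rec_ i >>> 24) &&& 1048575

/-- label code -/
def fc (i : ℕ) : ℕ := D.labs.getD (D.rec_ i >>> 44) 0

/-- label -/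
def flab (i : ℕ) : List ℕ := fields 4 300 (D.fc i)

/-- defining fact of a node -/
def fpar (q : ℕ) : ℕ := pget 20 D.par q

/-- add the letter of a fact to a reduced stack -/
def addLet (l : ℕ) (stk : List ℕ) (k : List ℕ → Bool) : Bool :=
  bif Nat.blt l D.L then push1 D.iv l stk k else k stk

/-- follow a path of facts below `i` -/
noncomputable def walkF (i : ℕ) : List ℕ → ℕ → List ℕ → List ℕ →
    (ℕ → List ℕ → List ℕ → Bool) → Bool
  | [], node, s, t, k => k node s t
  | v :: vs, node, s, t, k =>
    force (v >>> 1) fun f => Nat.blt f i && force (D.fp f) fun p => force (D.fl f) fun l =>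
      force (D.fq f) fun q => force (D.fc f) fun c => withFields 4 300 c fun w =>
        bif Nat.beq (v &&& 1) 1 then
          Nat.beq node p && D.addLet l s fun s' => walkF i vs q s' (revOnto w t) k
        else
          Nat.beq node q && bif Nat.blt l D.L then
            push1 D.iv (linv D.iv l) s fun s' => walkF i vs p s' (w.map (linv D.iv) ++ t) k
          else walkF i vs p s (w.map (linv D.iv) ++ t) k

/-- check a fact against its proof code -/
noncomputable def checkFact (cmp : List ℕ → List ℕ → Bool) (i code : ℕ) : Bool :=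
  withFields 20 1000 code fun toks =>
    force (D.fp i) fun p => force (D.fl i) fun l => force (D.fq i) fun q =>
      force (D.fc i) fun c => withFields 4 300 c fun w =>
        match toks with
        | [0] => Nat.blt l D.L && Nat.blt p q && Nat.beq (D.fpar q) i && beqL w []
        | [1] => Nat.beq p 0 && Nat.beq q 0 && Nat.blt l 8 && beqL w [l]
        | 2 :: c0 :: r :: n1 :: steps =>
          D.walkF i (steps.take n1) c0 [] [] fun a s1 t1 =>
            Nat.beq a p && D.walkF i (steps.drop n1) c0 [] [] fun b s2 t2 =>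
              Nat.beq b q && D.addLet l s1 fun s => pushAll D.iv (s2.map (linv D.iv)) s fun s' =>
                beqL (revOnto s' []) (bif Nat.beq r 0 then [] else D.R.getD (r - 1) []) &&
                  cmp (t1.map (linv D.iv) ++ revOnto t2 []) w
        | _ => false

/-- check consecutive facts -/
noncomputable def checkSeg (cmp : List ℕ → List ℕ → Bool) : ℕ → List ℕ → Bool
  | _, [] => true
  | i, code :: cs => D.checkFact cmp i code && force (i + 1) fun j => checkSeg cmp j cs

/-- the data fit together -/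
noncomputable def dataOK : Bool :=
  Nat.beq D.iv.length D.L && Nat.ble 8 D.L && D.iv.all (fun x => Nat.blt x D.L) &&
    (List.range 8).all (fun l => Nat.blt (linv D.iv l) 8) &&
    D.R.all (fun w => w.all fun l => Nat.blt l D.L) &&
    D.labs.all fun c => withFields 4 300 c fun w => w.all fun l => Nat.blt l 8

/-! ### soundness -/

variable {G : Type*} [Group G] (e : ℕ → G)

/-- coset representatives by recursion on the defining facts -/
def Xn : ℕ → ℕ → G
  | 0, _ => 1
  | fuel + 1, q =>
    if q = 0 then 1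
    else if D.fp (D.fpar q) < q then Xn fuel (D.fp (D.fpar q)) * trim e D.L (D.fl (D.fpar q))
    else 1

/-- coset representative of a node -/
def X (q : ℕ) : G := D.Xn e q q

theorem Xn_eq : ∀ (f : ℕ) {p : ℕ}, p ≤ f → D.Xn e f p = D.X e p := by
  intro f
  induction f using Nat.strong_induction_on with
  | _ f ih =>
    intro p h
    rcases Nat.eq_zero_or_pos p with rfl | hp
    · cases f <;> simp [X, Xn]
    obtain ⟨f', rfl⟩ := Nat.exists_eq_succ_of_ne_zero (by omega : f ≠ 0)
    obtain ⟨p', rfl⟩ := Nat.exists_eq_succ_of_ne_zero (by omega : p ≠ 0)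
    unfold X
    simp only [Xn, Nat.succ_ne_zero, if_false]
    split_ifs with h1
    · rw [ih f' (by omega) (by omega), ih p' (by omega) (by omega)]
    · rfl

theorem X_zero : D.X e 0 = 1 := rfl

theorem X_def {q : ℕ} (h : D.fp (D.fpar q) < q) :
    D.X e q = D.X e (D.fp (D.fpar q)) * trim e D.L (D.fl (D.fpar q)) := by
  obtain ⟨q', rfl⟩ := Nat.exists_eq_succ_of_ne_zero (by omega : q ≠ 0)
  change D.fp (D.fpar (q' + 1)) < q' + 1 at h
  show D.Xn e (q' + 1) (q' + 1) = _
  simp only [Xn, Nat.succ_ne_zero, if_false, if_pos h]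
  rw [D.Xn_eq e q' (by omega)]

variable {e} {K : Subgroup G}

/-- `x` has label `w` -/
def Rel (K : Subgroup G) (e : ℕ → G) (x : G) (w : List ℕ) : Prop :=
  x * (evalW e w)⁻¹ ∈ K

/-- label letters only -/
def Low (w : List ℕ) : Prop := ∀ l ∈ w, l < 8

/-- the hypotheses of a certificate -/
structure Sound (e : ℕ → G) (K : Subgroup G) (cmp : List ℕ → List ℕ → Bool) : Prop where
  data : D.dataOK = true
  invl : ∀ l, l < D.L → e (linv D.iv l) = (e l)⁻¹
  rel : ∀ w ∈ D.R, evalW e w = 1
  norm : ∀ l, l < 8 → ∀ x ∈ K, e l * x * (e l)⁻¹ ∈ K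
  cmp : ∀ u v, Low u → Low v → cmp u v = true → evalW e u * (evalW e v)⁻¹ ∈ K

variable {D} {cmp : List ℕ → List ℕ → Bool}

/-- the data in propositional form -/
theorem data_spec (h : D.dataOK = true) :
    D.iv.length = D.L ∧ 8 ≤ D.L ∧ (∀ l, l < D.L → linv D.iv l < D.L) ∧
      (∀ l, l < 8 → linv D.iv l < 8) ∧ (∀ w ∈ D.R, ∀ l ∈ w, l < D.L) ∧ ∀ i, Low (D.flab i) := by
  simp only [dataOK, Bool.and_eq_true, Nat.beq_eq, Nat.ble_eq] at h
  obtain ⟨⟨⟨⟨⟨hlen, h8⟩, hiv⟩, hiv8⟩, hR⟩, hlab⟩ := h
  refine ⟨hlen, h8, fun l hl => ?_, fun l hl => ?_, fun w hw l hl => ?_, fun i => ?_⟩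
  · rw [linv, List.getD_eq_getElem _ _ (hlen ▸ hl)]
    exact blt_iff.mp (List.all_eq_true.mp hiv _ (List.getElem_mem _))
  · exact blt_iff.mp (range_all hiv8 hl)
  · exact blt_iff.mp (List.all_eq_true.mp (List.all_eq_true.mp hR w hw) l hl)
  · intro l hl
    by_cases hm : D.rec_ i >>> 44 < D.labs.length
    · have h1 := withFields_eq _ _ _ _ (List.all_eq_true.mp hlab _ (List.getElem_mem hm))
      rw [flab, fc, List.getD_eq_getElem _ _ hm] at hl
      exact blt_iff.mp (List.all_eq_true.mp h1 l hl)
    · rw [flab, fc, List.getD_eq_getElem?_getD, List.getElem?_eq_none (by omega)] at hl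
      rw [Option.getD_none, fields_zero] at hl
      simp at hl

theorem Low.append {u v : List ℕ} (hu : Low u) (hv : Low v) : Low (u ++ v) :=
  fun l hl => (List.mem_append.mp hl).elim (hu l) (hv l)

theorem Low.reverse {u : List ℕ} (hu : Low u) : Low u.reverse :=
  fun l hl => hu l (List.mem_reverse.mp hl)

variable (h : D.Sound e K cmp)
include h

theorem low_map {u : List ℕ} (hu : Low u) : Low (u.map (linv D.iv)) := by
  intro l hl
  obtain ⟨x, hx, rfl⟩ := List.mem_map.mp hl
  exact (data_spec h.data).2.2.2.1 x (hu x hx)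

theorem conj_mem {w : List ℕ} : Low w → ∀ x ∈ K, evalW e w * x * (evalW e w)⁻¹ ∈ K := by
  induction w with
  | nil => intro _ x hx; simpa [evalW] using hx
  | cons l w ih =>
    intro hw x hx
    have := h.norm l (hw l (by simp)) _ (ih (fun y hy => hw y (by simp [hy])) x hx)
    simpa [evalW_cons, mul_assoc] using this

theorem evalW_winv8 {w : List ℕ} (hw : Low w) :
    evalW e (w.reverse.map (linv D.iv)) = (evalW e w)⁻¹ := by
  induction w with
  | nil => simp [evalW]
  | cons l w ih =>
    have hl := hw l (by simp)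
    rw [List.reverse_cons, List.map_append, evalW_append, ih fun y hy => hw y (by simp [hy]),
      evalW_cons, mul_inv_rev, List.map_singleton, evalW_cons, evalW_nil, mul_one,
      h.invl l (lt_of_lt_of_le hl (data_spec h.data).2.1)]

theorem rel_mul {x y : G} {u v : List ℕ} (hu : Low u) (hx : Rel K e x u) (hy : Rel K e y v) :
    Rel K e (x * y) (u ++ v) := by
  have := K.mul_mem hx (conj_mem h hu _ hy)
  unfold Rel
  convert this using 1
  rw [evalW_append]; group

theorem rel_inv {x : G} {u : List ℕ} (hu : Low u) (hx : Rel K e x u) :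
    Rel K e x⁻¹ (u.reverse.map (linv D.iv)) := by
  have := conj_mem h (low_map h hu.reverse) _ (K.inv_mem hx)
  rw [evalW_winv8 h hu] at this
  unfold Rel
  rw [evalW_winv8 h hu]
  convert this using 1
  group

omit h in
theorem evalW_trim {w : List ℕ} {L : ℕ} (hw : ∀ l ∈ w, l < L) :
    evalW (trim e L) w = evalW e w :=
  evalW_congr fun l hl => trim_of_lt (hw l hl)

/-- auxiliary data for free reduction -/
theorem hyp : Hyp ⟨D.L, D.iv, [], D.R, []⟩ (trim e D.L) (⊤ : Subgroup G) := by
  obtain ⟨hlen, -, hiv, -, hR, -⟩ := data_spec h.data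
  refine ⟨fun l => ?_, fun w hw => ?_, fun _ _ => Subgroup.mem_top _⟩
  · change trim e D.L (linv D.iv l) = _
    rcases Nat.lt_or_ge l D.L with hl | hl
    · rw [trim_of_lt hl, trim_of_lt (hiv l hl), h.invl l hl]
    · have h1 : linv D.iv l = l := by
        rw [linv, List.getD_eq_getElem?_getD, List.getElem?_eq_none (hlen ▸ hl)]; rfl
      rw [h1, trim, if_neg (by omega), inv_one]
  · change evalW (trim e D.L) w = 1
    rw [evalW_trim (hR w hw)]
    exact h.rel w hw

theorem addLet_sound {l : ℕ} {stk : List ℕ} {k : List ℕ → Bool}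
    (hk : D.addLet l stk k = true) : ∃ s, k s = true ∧
      evalW (trim e D.L) s.reverse = evalW (trim e D.L) stk.reverse * trim e D.L l := by
  unfold addLet at hk
  cases hb : Nat.blt l D.L <;> simp only [hb, cond_true, cond_false] at hk
  · refine ⟨stk, hk, ?_⟩
    rw [trim, if_neg, mul_one]
    intro hl
    rw [blt_iff.mpr hl] at hb
    exact Bool.noConfusion hb
  · exact push1_sound (D := ⟨D.L, D.iv, [], D.R, []⟩) (hyp h) hk

omit h in
/-- a fact is true -/
def FOK (D : FD) (e : ℕ → G) (K : Subgroup G) (i : ℕ) : Prop :=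
  Rel K e (D.X e (D.fp i) * trim e D.L (D.fl i) * (D.X e (D.fq i))⁻¹) (D.flab i)

/-- the invariant of a path -/
theorem walkF_sound {i : ℕ} (hi : ∀ j, j < i → FOK D e K j) (c : ℕ) :
    ∀ (vs : List ℕ) (node : ℕ) (s t : List ℕ) (k : ℕ → List ℕ → List ℕ → Bool), Low t →
      Rel K e (D.X e c * evalW (trim e D.L) s.reverse * (D.X e node)⁻¹) t.reverse →
      D.walkF i vs node s t k = true →
      ∃ node' s' t', k node' s' t' = true ∧ Low t' ∧
        Rel K e (D.X e c * evalW (trim e D.L) s'.reverse * (D.X e node')⁻¹) t'.reverse := by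
  intro vs
  induction vs with
  | nil => intro node s t k ht hx hk; exact ⟨node, s, t, hk, ht, hx⟩
  | cons v vs ih =>
    intro node s t k ht hx hk
    simp only [walkF, H45.force_eq, Bool.and_eq_true, blt_iff] at hk
    obtain ⟨hf, hk0⟩ := hk
    have hk := withFields_eq _ _ _ _ hk0
    clear hk0
    have hfok := hi _ hf
    have hlow : Low (D.flab (v >>> 1)) := (data_spec h.data).2.2.2.2.2 _
    unfold FOK at hfok
    cases hd : Nat.beq (v &&& 1) 1 <;> simp only [hd, cond_true, cond_false, Bool.and_eq_true,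
      Nat.beq_eq] at hk
    · obtain ⟨rfl, hk⟩ := hk
      have hlow' : Low ((D.flab (v >>> 1)).map (linv D.iv) ++ t) := (low_map h hlow).append ht
      have hy := rel_inv h hlow hfok
      rw [mul_inv_rev, mul_inv_rev, inv_inv] at hy
      have hxy := rel_mul h ht.reverse hx hy
      have key : Rel K e (D.X e c * (evalW (trim e D.L) s.reverse * (trim e D.L (D.fl (v >>> 1)))⁻¹) *
          (D.X e (D.fp (v >>> 1)))⁻¹)
          ((D.flab (v >>> 1)).map (linv D.iv) ++ t).reverse := by
        rw [List.reverse_append, ← List.map_reverse]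
        convert hxy using 1
        group
      cases hl : Nat.blt (D.fl (v >>> 1)) D.L <;> simp only [hl, cond_true, cond_false] at hk
      · refine ih _ _ _ _ hlow' ?_ hk
        rwa [trim, if_neg (fun hlt => by simp [blt_iff.mpr hlt] at hl), inv_one, mul_one] at key
      · obtain ⟨s', hk', hs⟩ := push1_sound (D := ⟨D.L, D.iv, [], D.R, []⟩) (hyp h) hk
        refine ih _ _ _ _ hlow' ?_ hk'
        rwa [hs, (hyp h).invl]
    · obtain ⟨rfl, hk⟩ := hk
      obtain ⟨s', hk', hs⟩ := addLet_sound h hk
      have hlow' : Low (revOnto (D.flab (v >>> 1)) t) := by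
        rw [revOnto_eq]; exact hlow.reverse.append ht
      refine ih _ _ _ _ hlow' ?_ hk'
      rw [revOnto_eq, List.reverse_append, List.reverse_reverse, hs]
      convert rel_mul h ht.reverse hx hfok using 1
      group

theorem checkFact_sound {i code : ℕ} (hi : ∀ j, j < i → FOK D e K j)
    (hc : D.checkFact cmp i code = true) : FOK D e K i := by
  have hlow : Low (D.flab i) := (data_spec h.data).2.2.2.2.2 i
  unfold checkFact at hc
  simp only [H45.force_eq] at hc
  have hc := withFields_eq _ _ _ _ hc
  have hc := withFields_eq _ _ _ _ hc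
  split at hc
  · simp only [Bool.and_eq_true, blt_iff, Nat.beq_eq] at hc
    obtain ⟨⟨⟨-, hpq⟩, hpar⟩, hw⟩ := hc
    have hw : D.flab i = [] := beqL_eq hw
    unfold FOK
    rw [hw, D.X_def e (q := D.fq i) (by rw [hpar]; exact hpq), hpar]
    simp [Rel, evalW]
  · simp only [Bool.and_eq_true, blt_iff, Nat.beq_eq] at hc
    obtain ⟨⟨⟨hp, hq⟩, hl⟩, hw⟩ := hc
    have hw : D.flab i = [D.fl i] := beqL_eq hw
    unfold FOK
    rw [hw, hp, hq, X_zero, trim_of_lt (lt_of_lt_of_le hl (data_spec h.data).2.1)]
    simp [Rel, evalW]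
  · rename_i c0 r n1 steps _
    obtain ⟨a, s1, t1, hc, ht1, h1⟩ :=
      walkF_sound h hi c0 _ _ [] [] _ (by simp [Low]) (by simp [Rel, evalW]) hc
    simp only [Bool.and_eq_true, Nat.beq_eq] at hc
    obtain ⟨rfl, hc⟩ := hc
    obtain ⟨b, s2, t2, hc, ht2, h2⟩ :=
      walkF_sound h hi c0 _ _ [] [] _ (by simp [Low]) (by simp [Rel, evalW]) hc
    simp only [Bool.and_eq_true, Nat.beq_eq] at hc
    obtain ⟨rfl, hc⟩ := hc
    obtain ⟨s, hc, hs⟩ := addLet_sound h hc
    obtain ⟨s', hc, hs'⟩ := pushAll_sound (D := ⟨D.L, D.iv, [], D.R, []⟩) (hyp h) _ _ _ hc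
    simp only [Bool.and_eq_true] at hc
    obtain ⟨hred, hcmp⟩ := hc
    have hred := beqL_eq hred
    rw [revOnto_eq, List.append_nil] at hred
    have hone : evalW (trim e D.L) s'.reverse = 1 := by
      rw [hred]
      cases Nat.beq r 0 <;> simp only [cond_true, cond_false]
      · exact evalW_getD_R (hyp h) _
      · rfl
    have hwi : evalW (trim e D.L) (s2.map (linv D.iv)) =
        (evalW (trim e D.L) s2.reverse)⁻¹ := by
      rw [← evalW_winv (hyp h)]
      simp [winv]
    rw [hone, hs, hwi] at hs'
    rw [revOnto_eq, List.append_nil] at hcmp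
    have hu : Low (t1.map (linv D.iv) ++ t2.reverse) := (low_map h ht1).append ht2.reverse
    have h1' := rel_inv h ht1.reverse h1
    rw [List.reverse_reverse] at h1'
    have h3 := rel_mul h (low_map h ht1) h1' h2
    unfold FOK Rel at *
    have h4 := K.mul_mem h3 (h.cmp _ _ hu hlow hcmp)
    rw [← mul_assoc, inv_mul_cancel_right] at h4
    convert h4 using 1
    have h5 : trim e D.L (D.fl i) =
        (evalW (trim e D.L) s1.reverse)⁻¹ * evalW (trim e D.L) s2.reverse := by
      have h6 := mul_inv_eq_one.mp hs'.symm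
      rw [← h6]; group
    rw [h5]; group
  · exact absurd hc (by simp)

theorem checkSeg_sound : ∀ (cs : List ℕ) (i : ℕ), (∀ j, j < i → FOK D e K j) →
    D.checkSeg cmp i cs = true → ∀ j, j < i + cs.length → FOK D e K j := by
  intro cs
  induction cs with
  | nil => intro i hi _ j hj; exact hi j (by simpa using hj)
  | cons c cs ih =>
    intro i hi hc j hj
    simp only [checkSeg, H45.force_eq, Bool.and_eq_true] at hc
    refine ih (i + 1) (fun k hk => ?_) hc.2 j (by simp only [List.length_cons] at hj; omega)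
    rcases Nat.lt_succ_iff_lt_or_eq.mp hk with hk | rfl
    · exact hi k hk
    · exact checkFact_sound h hi hc.1

end FD

end Cfsg.Agent.H25.Th
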