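import Cfsg.Agent.H40.Th.Local
import Cfsg.Agent.H45.CosetSound

/-!
Relators of the presented Thompson group as words in eleven letters
`d e s s⁻¹ t t⁻¹ a c b u u⁻¹` (numbered 0 to 10).
-/

set_option autoImplicit false
set_option maxHeartbeats 2000000

namespace Cfsg.Agent.H25.Th

open Cfsg.Agent.H45 Cfsg.Agent.H40.Th

/-- formal inverses of the letters -/
def iv : List ℕ := [0, 1, 3, 2, 5, 4, 6, 7, 8, 10, 9]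

/-- the relators, in the order of the definition -/
def rels : List (List ℕ) := [
  [6, 6],
  [8, 8],
  [7, 7],
  [0, 0],
  [1, 1],
  [6, 8, 6, 8, 6, 8],
  [6, 1, 6, 1],
  [8, 7, 8, 7, 8, 7],
  [8, 0, 8, 0],
  [8, 1, 8, 1],
  [6, 0, 7, 0, 7, 0, 7, 0, 7],
  [7, 1, 7, 1],
  [0, 1, 0, 1, 0, 1],
  [8, 7, 0, 1, 8, 7, 0, 1, 8, 7, 0, 1, 8, 7, 0, 1, 8, 7, 0, 1, 8, 7, 0, 1, 8, 7, 0, 1, 8, 7, 0, 1],
  [2, 2, 2, 2, 2, 2, 2],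
  [3, 6, 2, 6],
  [3, 8, 2, 8],
  [3, 7, 2, 7],
  [2, 0, 2, 0],
  [1, 3, 1, 3, 3, 1, 2, 2, 2],
  [4, 4, 4],
  [5, 6, 4, 6],
  [5, 8, 4, 8],
  [5, 7, 4, 7],
  [5, 0, 4, 0],
  [5, 1, 4, 1],
  [5, 2, 4, 3, 3],
  [9, 9, 7, 6],
  [10, 6, 9, 6],
  [10, 7, 9, 7],
  [10, 1, 9, 1],
  [0, 1, 10, 0, 9, 0, 1, 10, 0, 9],
  [10, 8, 7, 6, 8, 9, 8, 6, 7, 8, 1],
  [0, 10, 0, 8, 7, 6, 8, 0, 9, 0, 8, 6, 7, 8, 7, 1, 0, 10, 0, 8, 7, 6, 8, 1, 10],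
  [10, 4, 9, 4],
  [1, 3, 3, 10, 2, 2, 1, 3, 3, 9, 2, 2],
  [6, 7, 3, 10, 3, 10, 3, 10],
  [6, 7, 3, 10, 2, 9, 3, 10, 2, 9, 3, 10, 2, 9, 3, 10, 2, 9],
  [0, 3, 3, 9, 2, 2, 0, 3, 3, 9, 2, 2, 0, 3, 3, 9, 2, 2, 0, 3, 3, 9, 1, 0, 7, 0, 1, 2, 2, 2, 1, 0, 7, 0, 1, 3, 0, 7, 0, 7, 6]]

/-- letters as signed generators -/
def lsign : List (Cfsg.Spor.Th.Gen × Bool) :=
  [(.d, true), (.e, true), (.s, true), (.s, false), (.t, true), (.t, false), (.a, true), (.c, true),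
    (.b, true), (.u, true), (.u, false)]

/-- values of the letters -/
def gv (l : ℕ) : Cfsg.Spor.Th :=
  (lsign[l]?).elim 1 fun x => cond x.2 (gen x.1) (gen x.1)⁻¹

theorem inv_of_sq {x : Cfsg.Spor.Th.Gen} (k : ℕ) (h : Cfsg.Spor.Th.extra.getD k 1 = FreeGroup.of x ^ 2) :
    (gen x)⁻¹ = gen x := by
  have h2 := rel_getD k
  rw [h, map_pow, FreeGroup.lift_apply_of, pow_two] at h2
  exact inv_eq_of_mul_eq_one_left h2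

theorem inv_a : (gen .a)⁻¹ = gen .a := inv_of_sq 0 rfl
theorem inv_b : (gen .b)⁻¹ = gen .b := inv_of_sq 1 rfl
theorem inv_c : (gen .c)⁻¹ = gen .c := inv_of_sq 2 rfl
theorem inv_d : (gen .d)⁻¹ = gen .d := inv_of_sq 3 rfl
theorem inv_e : (gen .e)⁻¹ = gen .e := inv_of_sq 4 rfl

theorem gv_inv : ∀ l, gv (linv iv l) = (gv l)⁻¹ := by
  intro l
  rcases Nat.lt_or_ge l 11 with h | h
  · interval_cases l <;> simp [gv, linv, iv, lsign, inv_a, inv_b, inv_c, inv_d, inv_e]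
  · have h1 : linv iv l = l := by
      rw [linv, List.getD_eq_getElem?_getD, List.getElem?_eq_none (by simpa [iv] using h)]; rfl
    have h2 : lsign[l]? = none := List.getElem?_eq_none (by simpa [lsign] using h)
    simp [h1, gv, h2]

/-- the letter of a signed generator -/
def code : Cfsg.Spor.Th.Gen × Bool → ℕ
  | (.d, _) => 0
  | (.e, _) => 1
  | (.s, true) => 2
  | (.s, false) => 3
  | (.t, true) => 4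
  | (.t, false) => 5
  | (.a, _) => 6
  | (.c, _) => 7
  | (.b, _) => 8
  | (.u, true) => 9
  | (.u, false) => 10

theorem gv_code (x : Cfsg.Spor.Th.Gen × Bool) : gv (code x) = cond x.2 (gen x.1) (gen x.1)⁻¹ := by
  obtain ⟨g, b⟩ := x
  cases g <;> cases b <;> simp [gv, code, lsign, inv_a, inv_b, inv_c, inv_d, inv_e]

set_option maxRecDepth 100000 in
theorem rels_eq : rels = Cfsg.Spor.Th.extra.map fun r => r.toWord.map code := by decide +kernel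

theorem rels_ok : ∀ w ∈ rels, evalW gv w = 1 := by
  intro w hw
  rw [rels_eq] at hw
  obtain ⟨r, hr, rfl⟩ := List.mem_map.mp hw
  have h := rel_one hr
  rw [← FreeGroup.mk_toWord (x := r), FreeGroup.lift_mk] at h
  rw [← h, evalW, List.map_map]
  exact congrArg List.prod (List.map_congr_left fun x _ => gv_code x)

/-- relators of `A = <a, c, d, e, s, t>` -/
def relA : List (List ℕ) := [
  [6, 6],
  [7, 7],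
  [0, 0],
  [1, 1],
  [6, 1, 6, 1],
  [6, 0, 7, 0, 7, 0, 7, 0, 7],
  [7, 1, 7, 1],
  [0, 1, 0, 1, 0, 1],
  [2, 2, 2, 2, 2, 2, 2],
  [3, 6, 2, 6],
  [3, 7, 2, 7],
  [2, 0, 2, 0],
  [1, 3, 1, 3, 3, 1, 2, 2, 2],
  [4, 4, 4],
  [5, 6, 4, 6],
  [5, 7, 4, 7],
  [5, 0, 4, 0],
  [5, 1, 4, 1],
  [5, 2, 4, 3, 3]]

/-- relators of `H = <a, b, c, d, e, s, t>` -/
def relH : List (List ℕ) := [
  [6, 6],
  [8, 8],
  [7, 7],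
  [0, 0],
  [1, 1],
  [6, 8, 6, 8, 6, 8],
  [6, 1, 6, 1],
  [8, 7, 8, 7, 8, 7],
  [8, 0, 8, 0],
  [8, 1, 8, 1],
  [6, 0, 7, 0, 7, 0, 7, 0, 7],
  [7, 1, 7, 1],
  [0, 1, 0, 1, 0, 1],
  [8, 7, 0, 1, 8, 7, 0, 1, 8, 7, 0, 1, 8, 7, 0, 1, 8, 7, 0, 1, 8, 7, 0, 1, 8, 7, 0, 1, 8, 7, 0, 1],
  [2, 2, 2, 2, 2, 2, 2],
  [3, 6, 2, 6],
  [3, 8, 2, 8],
  [3, 7, 2, 7],
  [2, 0, 2, 0],
  [1, 3, 1, 3, 3, 1, 2, 2, 2],
  [4, 4, 4],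
  [5, 6, 4, 6],
  [5, 8, 4, 8],
  [5, 7, 4, 7],
  [5, 0, 4, 0],
  [5, 1, 4, 1],
  [5, 2, 4, 3, 3]]

/-- relators of `C = <a, c, d, e, s, t, u>` -/
def relC : List (List ℕ) := [
  [6, 6],
  [7, 7],
  [0, 0],
  [1, 1],
  [6, 1, 6, 1],
  [6, 0, 7, 0, 7, 0, 7, 0, 7],
  [7, 1, 7, 1],
  [0, 1, 0, 1, 0, 1],
  [2, 2, 2, 2, 2, 2, 2],
  [3, 6, 2, 6],
  [3, 7, 2, 7],
  [2, 0, 2, 0],
  [1, 3, 1, 3, 3, 1, 2, 2, 2],
  [4, 4, 4],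
  [5, 6, 4, 6],
  [5, 7, 4, 7],
  [5, 0, 4, 0],
  [5, 1, 4, 1],
  [5, 2, 4, 3, 3],
  [9, 9, 7, 6],
  [10, 6, 9, 6],
  [10, 7, 9, 7],
  [10, 1, 9, 1],
  [0, 1, 10, 0, 9, 0, 1, 10, 0, 9],
  [10, 4, 9, 4],
  [1, 3, 3, 10, 2, 2, 1, 3, 3, 9, 2, 2],
  [6, 7, 3, 10, 3, 10, 3, 10],
  [6, 7, 3, 10, 2, 9, 3, 10, 2, 9, 3, 10, 2, 9, 3, 10, 2, 9],
  [0, 3, 3, 9, 2, 2, 0, 3, 3, 9, 2, 2, 0, 3, 3, 9, 2, 2, 0, 3, 3, 9, 1, 0, 7, 0, 1, 2, 2, 2, 1, 0, 7, 0, 1, 3, 0, 7, 0, 7, 6]]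

/-- the further relator of `A` -/
def r0 : List ℕ := [7, 0, 1, 2, 7, 0, 1, 2, 7, 0, 1, 2, 7, 0, 7, 1, 0, 7, 3, 1, 0, 7, 3, 1, 0, 7, 3, 1, 0, 7, 3, 1, 2, 0, 1, 2]

/-- the relators involving both `b` and `u` -/
def relMix : List (List ℕ) := [
  [10, 8, 7, 6, 8, 9, 8, 6, 7, 8, 1],
  [0, 10, 0, 8, 7, 6, 8, 0, 9, 0, 8, 6, 7, 8, 7, 1, 0, 10, 0, 8, 7, 6, 8, 1, 10]]

theorem sub_rels {R : List (List ℕ)} (h : (R.all fun w => decide (w ∈ rels)) = true) :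
    ∀ w ∈ R, evalW gv w = 1 :=
  fun w hw => rels_ok w (of_decide_eq_true (List.all_eq_true.mp h w hw))

theorem relA_ok : ∀ w ∈ relA, evalW gv w = 1 := sub_rels (by decide +kernel)
theorem relH_ok : ∀ w ∈ relH, evalW gv w = 1 := sub_rels (by decide +kernel)
theorem relC_ok : ∀ w ∈ relC, evalW gv w = 1 := sub_rels (by decide +kernel)
theorem relMix_ok : ∀ w ∈ relMix, evalW gv w = 1 := sub_rels (by decide +kernel)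

end Cfsg.Agent.H25.Th
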