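import Cfsg.Agent.H25.Th.BoundC
import Cfsg.Agent.H25.Th.BoundH
import Cfsg.Agent.H25.Th.Words
import Cfsg.Agent.H25.Th.FoldData

/-!
Facts about cosets of `H`: a fact `(n, u, m, v)` says `H X_n u = H X_m v`.  Words in `H` and in `C` are
compared exactly, through their action on few points.
-/

set_option autoImplicit false
set_option maxRecDepth 100000

namespace Cfsg.Agent.H25.Th

open Cfsg.Agent.H45

/-- letters of `C` in the common numbering -/
def cmap (l : ℕ) : ℕ := bif Nat.blt l 8 then l else l + 1

/-- common letters in the numbering of `C` -/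
def cloc (l : ℕ) : ℕ := bif Nat.blt l 8 then l else l - 1

/-- values of the letters of `C` -/
def ev (l : ℕ) : Cfsg.Spor.Th := gv (cmap l)

theorem ev_low {w : List ℕ} (hw : FD.Low w) : evalW ev w = evalW gv w :=
  evalW_congr fun l hl => by simp [ev, cmap, blt_iff.mpr (hw l hl)]

theorem cletters : CLetters ev := by
  refine ⟨fun l hl => ?_, fun w hw => ?_⟩
  · have h := gv_inv (cmap l)
    rw [ev, ev, ← h]
    interval_cases l <;> rfl
  · have hc : (datM.R.all fun w => decide (w.map cmap ∈ relC)) = true := by decide +kernel
    have := relC_ok _ (of_decide_eq_true (List.all_eq_true.mp hc w hw))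
    rwa [evalW_map] at this

theorem hletters : HLetters gv := by
  refine ⟨fun l hl => ?_, fun w hw => ?_⟩
  · have h := gv_inv l
    rw [← h]
    interval_cases l <;> rfl
  · rcases List.mem_append.mp hw with hw | hw
    · exact relH_ok w hw
    · rw [List.mem_singleton.mp hw, ← ev_low]
      · exact r0_eq_one cletters
      · have : r0.all (fun l => Nat.blt l 8) = true := by decide +kernel
        exact fun l hl => blt_iff.mp (List.all_eq_true.mp this l hl)

/-- `A` -/
abbrev SA : Subgroup Cfsg.Spor.Th := upTo gv 8

/-- `H` -/
abbrev SH : Subgroup Cfsg.Spor.Th := upTo gv 9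

/-- `C` -/
abbrev SC : Subgroup Cfsg.Spor.Th := upTo ev 10

theorem upTo_ev : upTo ev 8 = SA := by
  apply le_antisymm <;> refine (Subgroup.closure_le _).mpr ?_
  · rintro _ ⟨l, hl, rfl⟩
    simpa [ev, cmap, blt_iff.mpr hl] using mem_upTo (e := gv) hl
  · rintro _ ⟨l, hl, rfl⟩
    exact Subgroup.subset_closure ⟨l, hl, by simp [ev, cmap, blt_iff.mpr hl]⟩

/-! ### words of `C` -/

/-- a letter of `C` -/
def inC (l : ℕ) : Bool := Nat.blt l 8 || Nat.beq l 9 || Nat.beq l 10

/-- a letter of `H` -/
def inH (l : ℕ) : Bool := Nat.blt l 9

theorem cloc_lt {l : ℕ} (h : inC l = true) : cloc l < 10 ∧ cmap (cloc l) = l := by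
  simp only [inC, Bool.or_eq_true, Nat.beq_eq, blt_iff] at h
  rcases h with (h | rfl) | rfl
  · interval_cases l <;> exact ⟨by decide, rfl⟩
  · exact ⟨by decide, rfl⟩
  · exact ⟨by decide, rfl⟩

/-- check the stored labels of the edges of `C` -/
noncomputable def labRows : ℕ → Bool
  | 0 => true
  | i + 1 => ((List.range 10).all fun l =>
      beqL (fields 4 300 (pget 200 labsC (i * 10 + l)))
        (datM.edgeLab (pget 21 edgesM (i * 10 + l)))) && labRows i

theorem labRows_ok : labRows 120 = true := by decide +kernel

theorem labRows_spec : ∀ {m : ℕ}, labRows m = true → ∀ i, i < m → ∀ l, l < 10 →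
    fields 4 300 (pget 200 labsC (i * 10 + l)) = datM.edgeLab (pget 21 edgesM (i * 10 + l)) := by
  intro m
  induction m with
  | zero => intro _ i hi; omega
  | succ m ih =>
    intro h i hi l hl
    simp only [labRows, Bool.and_eq_true] at h
    rcases Nat.lt_succ_iff_lt_or_eq.mp hi with hi | rfl
    · exact ih h.2 i hi l hl
    · exact beqL_eq (range_all h.1 hl)

/-- follow a word of `C`: the coset of `A` and the images of three points under the label -/
noncomputable def cWalk : List ℕ → ℕ → ℕ → ℕ → ℕ → (ℕ → ℕ → ℕ → ℕ → Bool) → Bool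
  | [], q, a, b, c, k => k q a b c
  | l :: w, q, a, b, c, k => inC l && force (cloc l) fun x =>
      force (pget 200 labsC (q * 10 + x)) fun code => withFields 4 300 code fun u =>
        force (walkV cols819 u a) fun a' => force (walkV cols819 u b) fun b' =>
          force (walkV cols819 u c) fun c' => force (tget colsM q x) fun q' =>
            cWalk w q' a' b' c' k

/-- the value of a state of `cWalk` -/
def cVal (lab : List ℕ) (q : ℕ) : Cfsg.Spor.Th :=
  evalW ev lab * datM.X ev (pget 20 liveM q)

theorem walkT_append (cols : List ℕ) (u v : List ℕ) (p : ℕ) :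
    walkT cols (u ++ v) p = walkT cols v (walkT cols u p) := by
  rw [← walkC_map, ← walkC_map, ← walkC_map, List.map_append, walkC_append]

theorem cWalk_sound : ∀ (w lab : List ℕ) (q : ℕ) (k : ℕ → ℕ → ℕ → ℕ → Bool),
    q < 120 → FD.Low lab →
    cWalk w q (walkT cols819 lab 199) (walkT cols819 lab 203) (walkT cols819 lab 468) k = true →
    ∃ q' lab', k q' (walkT cols819 lab' 199) (walkT cols819 lab' 203) (walkT cols819 lab' 468) = true ∧
      q' < 120 ∧ FD.Low lab' ∧ cVal lab q * evalW gv w = cVal lab' q' := by
  intro w
  induction w with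
  | nil => intro lab q k hq hl hk; exact ⟨q, lab, hk, hq, hl, by simp [evalW]⟩
  | cons l w ih =>
    intro lab q k hq hl hk
    simp only [cWalk, H45.force_eq, Bool.and_eq_true] at hk
    obtain ⟨hin, hk0⟩ := hk
    have hk := withFields_eq _ _ _ _ hk0
    clear hk0
    simp only [walkV, walkC_map, ← walkT_append] at hk
    obtain ⟨hx, hcm⟩ := cloc_lt hin
    have hlab := labRows_spec labRows_ok q hq _ hx
    rw [hlab] at hk
    have hlow : FD.Low (lab ++ datM.edgeLab (pget 21 edgesM (q * 10 + cloc l))) :=
      hl.append (FD.edgeLab_low (datM_sound cletters) _)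
    obtain ⟨q', lab', h1, h2, h3, h4⟩ :=
      ih _ (tget colsM q (cloc l)) k (ltAll_sound ltM _ hx q hq) hlow hk
    refine ⟨q', lab', h1, h2, h3, ?_⟩
    have hgv : gv l = ev (cloc l) := by rw [ev, hcm]
    have he := C_edge cletters hq hx
    rw [← h4, evalW_cons, hgv]
    simp only [cVal, evalW_append, mul_assoc]
    rw [← mul_assoc (datM.X ev (pget 20 liveM q)) (ev (cloc l)), he, mul_assoc]

/-- equality of words of `C` -/
noncomputable def eqC (u v : List ℕ) : Bool :=
  cWalk u 0 199 203 468 fun q a b c => cWalk v 0 199 203 468 fun q' a' b' c' =>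
    Nat.beq q q' && Nat.beq a a' && Nat.beq b b' && Nat.beq c c'

theorem chainA_bases : chainA.map Lvl.base = [199, 203, 468] := by decide +kernel

theorem eqC_sound {u v : List ℕ} (h : eqC u v = true) : evalW gv u = evalW gv v := by
  have hnil : FD.Low ([] : List ℕ) := by simp [FD.Low]
  obtain ⟨q, lu, h, -, hlu, eu⟩ := cWalk_sound u [] 0 _ (by norm_num) hnil h
  obtain ⟨q', lv, h, -, hlv, ev'⟩ := cWalk_sound v [] 0 _ (by norm_num) hnil h
  simp only [Bool.and_eq_true, Nat.beq_eq] at h
  obtain ⟨⟨⟨rfl, ha⟩, hb⟩, hc⟩ := h
  have hw : ∀ x ∈ chainA, walkT cols819 lu x.base = walkT cols819 lv x.base := by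
    intro x hx
    have : x.base ∈ chainA.map Lvl.base := List.mem_map_of_mem hx
    rw [chainA_bases] at this
    simp only [List.mem_cons, List.not_mem_nil, or_false] at this
    rcases this with h1 | h1 | h1 <;> rw [h1] <;> assumption
  have h1 := eq_of_walksA hletters.invA hletters.relA1 hlu hlv hw
  have h0 : cVal [] 0 = 1 := by simp [cVal, evalW, liveM_zero, FD.X_zero]
  rw [h0, one_mul] at eu ev'
  rw [eu, ev', cVal, cVal, ev_low hlu, ev_low hlv, h1]

/-- equality of words of `H` -/
noncomputable def eqH (u v : List ℕ) : Bool :=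
  u.all inH && v.all inH && sameBase cols819 chainH u v

theorem eqH_sound {u v : List ℕ} (h : eqH u v = true) : evalW gv u = evalW gv v := by
  simp only [eqH, inH, Bool.and_eq_true, List.all_eq_true, blt_iff] at h
  exact eq_of_walksH hletters h.1.1 h.1.2 (sameBase_sound h.2)

/-- remove the common prefix -/
def strip : List ℕ → List ℕ → (List ℕ → List ℕ → Bool) → Bool
  | a :: u, b :: v, k => bif Nat.beq a b then strip u v k else k (a :: u) (b :: v)
  | u, v, k => k u v

theorem strip_sound : ∀ (u v : List ℕ) (k : List ℕ → List ℕ → Bool), strip u v k = true →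
    ∃ p u' v', k u' v' = true ∧ u = p ++ u' ∧ v = p ++ v' := by
  intro u
  induction u with
  | nil => intro v k h; exact ⟨[], [], v, by cases v <;> simpa [strip] using h, rfl, rfl⟩
  | cons a u ih =>
    intro v k h
    cases v with
    | nil => exact ⟨[], a :: u, [], by simpa [strip] using h, rfl, rfl⟩
    | cons b v =>
      simp only [strip] at h
      cases hb : Nat.beq a b <;> simp only [hb, cond_true, cond_false] at h
      · exact ⟨[], _, _, h, rfl, rfl⟩
      · obtain ⟨p, u', v', h1, h2, h3⟩ := ih v k h
        exact ⟨a :: p, u', v', h1, by simp [h2], by simp [h3, Nat.eq_of_beq_eq_true hb]⟩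

/-- equality of words after removing common ends -/
noncomputable def eqK (h : Bool) (x y : List ℕ) : Bool :=
  strip x y fun a b => strip (revOnto a []) (revOnto b []) fun a' b' =>
    bif h then eqH (revOnto a' []) (revOnto b' []) else eqC (revOnto a' []) (revOnto b' [])

theorem eqK_sound {h : Bool} {x y : List ℕ} (hk : eqK h x y = true) :
    evalW gv x = evalW gv y := by
  obtain ⟨p, a, b, hk1, rfl, rfl⟩ := strip_sound _ _ _ hk
  obtain ⟨s, a', b', hk, ha, hb⟩ := strip_sound _ _ _ hk1
  simp only [revOnto_eq, List.append_nil] at hk ha hb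
  have hmid : evalW gv a'.reverse = evalW gv b'.reverse := by
    cases h <;> simp only [cond_true, cond_false] at hk
    · exact eqC_sound hk
    · exact eqH_sound hk
  have ha' : a = a'.reverse ++ s.reverse := by rw [← List.reverse_append, ← ha, List.reverse_reverse]
  have hb' : b = b'.reverse ++ s.reverse := by rw [← List.reverse_append, ← hb, List.reverse_reverse]
  simp only [ha', hb', evalW_append, hmid]

/-! ### the facts -/

/-- entry of a nested list -/
def lget (cs : List (List ℕ)) (i : ℕ) : ℕ := (cs.getD (i / 84) []).getD (i % 84) 0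

/-- left word of a fact -/
def fu (i : ℕ) : List ℕ := fields 4 300 (lget foldU i)

/-- right word of a fact -/
def fv (i : ℕ) : List ℕ := fields 4 300 (lget foldV i)

/-- left node of a fact -/
def fn (i : ℕ) : ℕ := lget foldNM i &&& 65535

/-- right node of a fact -/
def fm (i : ℕ) : ℕ := lget foldNM i >>> 16

/-- defining fact of a node -/
def npar (m : ℕ) : ℕ := pget 20 foldPar m

/-- representatives of the nodes -/
def nodeXn : ℕ → ℕ → Cfsg.Spor.Th
  | 0, _ => 1
  | fuel + 1, m =>
    if m = 0 then 1
    else if fn (npar m) < m then nodeXn fuel (fn (npar m)) * evalW gv (fu (npar m)) else 1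

/-- representative of a node -/
def nodeX (m : ℕ) : Cfsg.Spor.Th := nodeXn m m

theorem nodeXn_eq : ∀ (f : ℕ) {p : ℕ}, p ≤ f → nodeXn f p = nodeX p := by
  intro f
  induction f using Nat.strong_induction_on with
  | _ f ih =>
    intro p h
    rcases Nat.eq_zero_or_pos p with rfl | hp
    · cases f <;> simp [nodeX, nodeXn]
    obtain ⟨f', rfl⟩ := Nat.exists_eq_succ_of_ne_zero (by omega : f ≠ 0)
    obtain ⟨p', rfl⟩ := Nat.exists_eq_succ_of_ne_zero (by omega : p ≠ 0)
    unfold nodeX
    simp only [nodeXn, Nat.succ_ne_zero, if_false]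
    split_ifs with h1
    · rw [ih f' (by omega) (by omega), ih p' (by omega) (by omega)]
    · rfl

theorem nodeX_zero : nodeX 0 = 1 := rfl

theorem nodeX_def {m : ℕ} (h : fn (npar m) < m) :
    nodeX m = nodeX (fn (npar m)) * evalW gv (fu (npar m)) := by
  obtain ⟨q', rfl⟩ := Nat.exists_eq_succ_of_ne_zero (by omega : m ≠ 0)
  change fn (npar (q' + 1)) < q' + 1 at h
  show nodeXn (q' + 1) (q' + 1) = _
  simp only [nodeXn, Nat.succ_ne_zero, if_false, if_pos h]
  rw [nodeXn_eq q' (by omega)]

/-- follow the steps of a proof -/
noncomputable def stepsF (i : ℕ) : List ℕ → ℕ → List ℕ → List ℕ →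
    (ℕ → List ℕ → List ℕ → Bool) → Bool
  | [], node, x, app, k => k node x app
  | v :: rest, node, x, app, k =>
    bif Nat.beq (v &&& 1) 1 then
      force (v >>> 2) fun l => stepsF i rest node (x ++ [l]) (l :: app) k
    else match rest with
      | [] => false
      | yc :: rest' =>
        force (v >>> 2) fun f => Nat.blt f i && force (fn f) fun a => force (fm f) fun b =>
          force (lget foldU f) fun cu => withFields 4 300 cu fun ua =>
            force (lget foldV f) fun cv => withFields 4 300 cv fun vb =>
              withFields 4 300 yc fun y =>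
                bif Nat.beq ((v >>> 1) &&& 1) 1 then
                  Nat.beq node a && eqK (bget foldKind a) x (ua ++ y) &&
                    stepsF i rest' b (vb ++ y) app k
                else
                  Nat.beq node b && eqK (bget foldKind b) x (vb ++ y) &&
                    stepsF i rest' a (ua ++ y) app k

/-- the letters appended along a proof form a relator -/
noncomputable def appOK (app : List ℕ) : Bool :=
  beqL app [] || relMix.any fun r => beqL app r

/-- check a fact -/
noncomputable def checkFold (i : ℕ) (code : List ℕ) : Bool :=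
  force (fn i) fun n => force (fm i) fun m =>
    force (lget foldU i) fun cu => withFields 4 300 cu fun u =>
      force (lget foldV i) fun cv => withFields 4 300 cv fun v =>
        match code with
        | [0] => Nat.blt n m && Nat.beq (npar m) i && beqL v []
        | [1] => Nat.beq n 0 && Nat.beq m 0 && beqL v [] && u.all inH
        | 2 :: st => stepsF i st n u [] fun node x app =>
            Nat.beq node m && appOK (revOnto app []) && eqK (bget foldKind m) x v
        | 3 :: st => stepsF i st m v [] fun node x app =>
            Nat.beq node n && appOK (revOnto app []) && eqK (bget foldKind n) x u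
        | _ => false

/-- check consecutive facts -/
noncomputable def checkFolds : ℕ → List (List ℕ) → Bool
  | _, [] => true
  | i, code :: cs => checkFold i code && force (i + 1) fun j => checkFolds j cs

/-- a fact is true -/
def KOK (i : ℕ) : Prop :=
  nodeX (fn i) * evalW gv (fu i) * (nodeX (fm i) * evalW gv (fv i))⁻¹ ∈ SH

theorem appOK_sound {app : List ℕ} (h : appOK app = true) : evalW gv app = 1 := by
  simp only [appOK, Bool.or_eq_true, List.any_eq_true] at h
  rcases h with h | ⟨r, hr, h⟩
  · rw [beqL_eq h]; simp [evalW]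
  · rw [beqL_eq h]; exact relMix_ok r hr

theorem stepsF_sound {i : ℕ} (hi : ∀ j, j < i → KOK j) (g0 : Cfsg.Spor.Th) :
    ∀ (N : ℕ) (vs : List ℕ), vs.length ≤ N → ∀ (node : ℕ) (x app : List ℕ)
      (k : ℕ → List ℕ → List ℕ → Bool),
      nodeX node * evalW gv x * (g0 * evalW gv app.reverse)⁻¹ ∈ SH →
      stepsF i vs node x app k = true →
      ∃ node' x' app', k node' x' app' = true ∧
        nodeX node' * evalW gv x' * (g0 * evalW gv app'.reverse)⁻¹ ∈ SH := by
  intro N
  induction N with
  | zero =>
    intro vs hvs node x app k hx hk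
    rw [List.length_eq_zero_iff.mp (Nat.le_zero.mp hvs)] at hk
    exact ⟨node, x, app, by simpa [stepsF] using hk, hx⟩
  | succ N ih =>
    intro vs hvs node x app k hx hk
    cases vs with
    | nil => exact ⟨node, x, app, by simpa [stepsF] using hk, hx⟩
    | cons v rest =>
      simp only [List.length_cons] at hvs
      unfold stepsF at hk
      cases hv : Nat.beq (v &&& 1) 1
      · simp only [hv, cond_false] at hk
        cases rest with
        | nil => simp at hk
        | cons yc rest' =>
          simp only [H45.force_eq, Bool.and_eq_true, blt_iff] at hk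
          obtain ⟨hf, hk0⟩ := hk
          have hk1 := withFields_eq _ _ _ _ hk0
          have hk2 := withFields_eq _ _ _ _ hk1
          have hk := withFields_eq _ _ _ _ hk2
          clear hk0 hk1 hk2
          have hfok := hi _ hf
          unfold KOK fu fv at hfok
          simp only [List.length_cons] at hvs
          cases hd : Nat.beq ((v >>> 1) &&& 1) 1 <;>
            simp only [hd, cond_true, cond_false, Bool.and_eq_true, Nat.beq_eq] at hk
          · obtain ⟨⟨hnode, he⟩, hk⟩ := hk
            refine ih rest' (by omega) _ _ _ _ ?_ hk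
            rw [hnode, eqK_sound he] at hx
            have h := mul_mem hfok hx
            simp only [evalW_append] at h ⊢
            convert h using 1
            group
          · obtain ⟨⟨hnode, he⟩, hk⟩ := hk
            refine ih rest' (by omega) _ _ _ _ ?_ hk
            rw [hnode, eqK_sound he] at hx
            have h := mul_mem (inv_mem hfok) hx
            simp only [evalW_append] at h ⊢
            convert h using 1
            group
      · simp only [hv, cond_true, H45.force_eq] at hk
        refine ih rest (by omega) _ _ _ _ ?_ hk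
        convert hx using 1
        simp only [List.reverse_cons, evalW_append, evalW_cons, evalW_nil, mul_one]
        group

theorem checkFold_sound {i : ℕ} {code : List ℕ} (hi : ∀ j, j < i → KOK j)
    (hc : checkFold i code = true) : KOK i := by
  unfold checkFold at hc
  simp only [H45.force_eq] at hc
  have hc1 := withFields_eq _ _ _ _ hc
  have hc2 := withFields_eq _ _ _ _ hc1
  clear hc hc1
  unfold KOK fu fv
  split at hc2
  · simp only [Bool.and_eq_true, blt_iff, Nat.beq_eq] at hc2
    obtain ⟨⟨hlt, hpar⟩, hv⟩ := hc2
    rw [beqL_eq hv, nodeX_def (m := fm i) (by rw [hpar]; exact hlt), hpar]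
    unfold fu
    simp [evalW]
  · simp only [Bool.and_eq_true, Nat.beq_eq, List.all_eq_true, inH, blt_iff] at hc2
    obtain ⟨⟨⟨hn, hm⟩, hv⟩, hu⟩ := hc2
    rw [beqL_eq hv, hn, hm, nodeX_zero]
    simpa [evalW_nil] using evalW_mem_upTo (e := gv) hu
  · rename_i st
    obtain ⟨node, x, app, hk, hx⟩ := stepsF_sound hi
      (nodeX (fn i) * evalW gv (fields 4 300 (lget foldU i))) st.length st le_rfl _ _ [] _
      (by simp [evalW]) hc2
    simp only [Bool.and_eq_true, Nat.beq_eq, revOnto_eq, List.append_nil] at hk
    obtain ⟨⟨rfl, ha⟩, he⟩ := hk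
    rw [appOK_sound ha, eqK_sound he, mul_one] at hx
    convert inv_mem hx using 1
    group
  · rename_i st
    obtain ⟨node, x, app, hk, hx⟩ := stepsF_sound hi
      (nodeX (fm i) * evalW gv (fields 4 300 (lget foldV i))) st.length st le_rfl _ _ [] _
      (by simp [evalW]) hc2
    simp only [Bool.and_eq_true, Nat.beq_eq, revOnto_eq, List.append_nil] at hk
    obtain ⟨⟨rfl, ha⟩, he⟩ := hk
    rw [appOK_sound ha, eqK_sound he, mul_one] at hx
    exact hx
  · exact absurd hc2 (by simp)

theorem checkFolds_sound : ∀ (cs : List (List ℕ)) (i : ℕ), (∀ j, j < i → KOK j) →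
    checkFolds i cs = true → ∀ j, j < i + cs.length → KOK j := by
  intro cs
  induction cs with
  | nil => intro i hi _ j hj; exact hi j (by simpa using hj)
  | cons c cs ih =>
    intro i hi hc j hj
    simp only [checkFolds, H45.force_eq, Bool.and_eq_true] at hc
    refine ih (i + 1) (fun k hk => ?_) hc.2 j (by simp only [List.length_cons] at hj; omega)
    rcases Nat.lt_succ_iff_lt_or_eq.mp hk with hk | rfl
    · exact hi k hk
    · exact checkFold_sound hi hc.1

end Cfsg.Agent.H25.Th
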