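import Cfsg.Agent.H25.Th.Fold
import Cfsg.Agent.H25.Th.SegFold0
import Cfsg.Agent.H25.Th.SegFold1
import Cfsg.Agent.H25.Th.SegFold2
import Cfsg.Agent.H25.Th.SegFold3
import Cfsg.Agent.H25.Th.SegFold4
import Cfsg.Agent.H25.Th.SegFold5
import Cfsg.Agent.H25.Th.SegFold6
import Cfsg.Agent.H25.Th.SegFold7
import Cfsg.Agent.H25.Th.SegFold8
import Cfsg.Agent.H25.Th.SegFold9
import Cfsg.Agent.H25.Th.SegFold10
import Cfsg.Agent.H25.Th.SegFold11
import Cfsg.Agent.H25.Th.SegFold12
import Cfsg.Agent.H25.Th.SegFold13
import Cfsg.Agent.H25.Th.SegFold14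
import Cfsg.Agent.H25.Th.SegFold15
import Cfsg.Agent.H25.Th.SegFold16
import Cfsg.Agent.H25.Th.SegFold17
import Cfsg.Agent.H25.Th.SegFold18
import Cfsg.Agent.H25.Th.SegFold19
import Cfsg.Agent.H25.Th.SegFold20
import Cfsg.Agent.H25.Th.SegFold21
import Cfsg.Agent.H25.Th.SegFold22
import Cfsg.Agent.H25.Th.SegFold23
import Cfsg.Agent.H25.Th.SegFold24
import Cfsg.Agent.H25.Th.SegFold25
import Cfsg.Agent.H25.Th.SegFold26
import Cfsg.Agent.H25.Th.SegFold27
import Cfsg.Agent.H25.Th.SegFold28
import Cfsg.Agent.H25.Th.SegFold29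
import Cfsg.Agent.H25.Th.SegFold30
import Cfsg.Agent.H25.Th.SegFold31
import Cfsg.Agent.H25.Th.SegFold32
import Cfsg.Agent.H25.Th.SegFold33
import Cfsg.Agent.H25.Th.SegFold34
import Cfsg.Agent.H25.Th.SegFold35

/-!
All facts of the cover hold.
-/

set_option autoImplicit false

namespace Cfsg.Agent.H25.Th

theorem foldFacts : ∀ k, k < 7129 → KOK k := by
  have h1 : ∀ k, k < 200 → KOK k := fun k hk =>
    checkFolds_sound segFold0 0 (fun k hk => absurd hk (by omega)) segFold0_ok k (by rw [segFold0_len]; omega)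
  have h2 : ∀ k, k < 400 → KOK k := fun k hk =>
    checkFolds_sound segFold1 200 h1 segFold1_ok k (by rw [segFold1_len]; omega)
  have h3 : ∀ k, k < 600 → KOK k := fun k hk =>
    checkFolds_sound segFold2 400 h2 segFold2_ok k (by rw [segFold2_len]; omega)
  have h4 : ∀ k, k < 800 → KOK k := fun k hk =>
    checkFolds_sound segFold3 600 h3 segFold3_ok k (by rw [segFold3_len]; omega)
  have h5 : ∀ k, k < 1000 → KOK k := fun k hk =>
    checkFolds_sound segFold4 800 h4 segFold4_ok k (by rw [segFold4_len]; omega)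
  have h6 : ∀ k, k < 1200 → KOK k := fun k hk =>
    checkFolds_sound segFold5 1000 h5 segFold5_ok k (by rw [segFold5_len]; omega)
  have h7 : ∀ k, k < 1400 → KOK k := fun k hk =>
    checkFolds_sound segFold6 1200 h6 segFold6_ok k (by rw [segFold6_len]; omega)
  have h8 : ∀ k, k < 1600 → KOK k := fun k hk =>
    checkFolds_sound segFold7 1400 h7 segFold7_ok k (by rw [segFold7_len]; omega)
  have h9 : ∀ k, k < 1800 → KOK k := fun k hk =>
    checkFolds_sound segFold8 1600 h8 segFold8_ok k (by rw [segFold8_len]; omega)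
  have h10 : ∀ k, k < 2000 → KOK k := fun k hk =>
    checkFolds_sound segFold9 1800 h9 segFold9_ok k (by rw [segFold9_len]; omega)
  have h11 : ∀ k, k < 2200 → KOK k := fun k hk =>
    checkFolds_sound segFold10 2000 h10 segFold10_ok k (by rw [segFold10_len]; omega)
  have h12 : ∀ k, k < 2400 → KOK k := fun k hk =>
    checkFolds_sound segFold11 2200 h11 segFold11_ok k (by rw [segFold11_len]; omega)
  have h13 : ∀ k, k < 2600 → KOK k := fun k hk =>
    checkFolds_sound segFold12 2400 h12 segFold12_ok k (by rw [segFold12_len]; omega)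
  have h14 : ∀ k, k < 2800 → KOK k := fun k hk =>
    checkFolds_sound segFold13 2600 h13 segFold13_ok k (by rw [segFold13_len]; omega)
  have h15 : ∀ k, k < 3000 → KOK k := fun k hk =>
    checkFolds_sound segFold14 2800 h14 segFold14_ok k (by rw [segFold14_len]; omega)
  have h16 : ∀ k, k < 3200 → KOK k := fun k hk =>
    checkFolds_sound segFold15 3000 h15 segFold15_ok k (by rw [segFold15_len]; omega)
  have h17 : ∀ k, k < 3400 → KOK k := fun k hk =>
    checkFolds_sound segFold16 3200 h16 segFold16_ok k (by rw [segFold16_len]; omega)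
  have h18 : ∀ k, k < 3600 → KOK k := fun k hk =>
    checkFolds_sound segFold17 3400 h17 segFold17_ok k (by rw [segFold17_len]; omega)
  have h19 : ∀ k, k < 3800 → KOK k := fun k hk =>
    checkFolds_sound segFold18 3600 h18 segFold18_ok k (by rw [segFold18_len]; omega)
  have h20 : ∀ k, k < 4000 → KOK k := fun k hk =>
    checkFolds_sound segFold19 3800 h19 segFold19_ok k (by rw [segFold19_len]; omega)
  have h21 : ∀ k, k < 4200 → KOK k := fun k hk =>
    checkFolds_sound segFold20 4000 h20 segFold20_ok k (by rw [segFold20_len]; omega)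
  have h22 : ∀ k, k < 4400 → KOK k := fun k hk =>
    checkFolds_sound segFold21 4200 h21 segFold21_ok k (by rw [segFold21_len]; omega)
  have h23 : ∀ k, k < 4600 → KOK k := fun k hk =>
    checkFolds_sound segFold22 4400 h22 segFold22_ok k (by rw [segFold22_len]; omega)
  have h24 : ∀ k, k < 4800 → KOK k := fun k hk =>
    checkFolds_sound segFold23 4600 h23 segFold23_ok k (by rw [segFold23_len]; omega)
  have h25 : ∀ k, k < 5000 → KOK k := fun k hk =>
    checkFolds_sound segFold24 4800 h24 segFold24_ok k (by rw [segFold24_len]; omega)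
  have h26 : ∀ k, k < 5200 → KOK k := fun k hk =>
    checkFolds_sound segFold25 5000 h25 segFold25_ok k (by rw [segFold25_len]; omega)
  have h27 : ∀ k, k < 5400 → KOK k := fun k hk =>
    checkFolds_sound segFold26 5200 h26 segFold26_ok k (by rw [segFold26_len]; omega)
  have h28 : ∀ k, k < 5600 → KOK k := fun k hk =>
    checkFolds_sound segFold27 5400 h27 segFold27_ok k (by rw [segFold27_len]; omega)
  have h29 : ∀ k, k < 5800 → KOK k := fun k hk =>
    checkFolds_sound segFold28 5600 h28 segFold28_ok k (by rw [segFold28_len]; omega)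
  have h30 : ∀ k, k < 6000 → KOK k := fun k hk =>
    checkFolds_sound segFold29 5800 h29 segFold29_ok k (by rw [segFold29_len]; omega)
  have h31 : ∀ k, k < 6200 → KOK k := fun k hk =>
    checkFolds_sound segFold30 6000 h30 segFold30_ok k (by rw [segFold30_len]; omega)
  have h32 : ∀ k, k < 6400 → KOK k := fun k hk =>
    checkFolds_sound segFold31 6200 h31 segFold31_ok k (by rw [segFold31_len]; omega)
  have h33 : ∀ k, k < 6600 → KOK k := fun k hk =>
    checkFolds_sound segFold32 6400 h32 segFold32_ok k (by rw [segFold32_len]; omega)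
  have h34 : ∀ k, k < 6800 → KOK k := fun k hk =>
    checkFolds_sound segFold33 6600 h33 segFold33_ok k (by rw [segFold33_len]; omega)
  have h35 : ∀ k, k < 7000 → KOK k := fun k hk =>
    checkFolds_sound segFold34 6800 h34 segFold34_ok k (by rw [segFold34_len]; omega)
  have h36 : ∀ k, k < 7129 → KOK k := fun k hk =>
    checkFolds_sound segFold35 7000 h35 segFold35_ok k (by rw [segFold35_len]; omega)
  exact h36

end Cfsg.Agent.H25.Th
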