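import Cfsg.Agent.H25.Th.Fold

/-!
Closure of the cover: from each final node, every coset of `A` in `H` (resp. `C`) leads along a
generator of the stabiliser or along one fact to a final node of the other kind.
-/

set_option autoImplicit false
set_option maxRecDepth 100000

namespace Cfsg.Agent.H25.Th

open Cfsg.Agent.H45

/-- a final node with its stabiliser generators and forest -/
structure FNode where
  id : ℕ
  gens : List ℕ
  ent : List (List ℕ)

/-- number of cosets of `A` -/
def sideN (h : Bool) : ℕ := bif h then 819 else 120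

/-- table of the cosets of `A` -/
def sideCols (h : Bool) : List ℕ := bif h then colsHh else colsM

/-- letters in the numbering of the table -/
def sideLoc (h : Bool) (l : ℕ) : ℕ := bif h then l else cloc l

/-- letters of a side -/
def sideIn (h : Bool) (l : ℕ) : Bool := bif h then inH l else inC l

/-- final nodes of a side -/
def sideFin (h : Bool) : List ℕ := bif h then finH else finC

/-- the group of a side -/
def sideG (h : Bool) : Subgroup Cfsg.Spor.Th := bif h then SH else SC

/-- representatives of the cosets of `A` -/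
def sideY (h : Bool) (i : ℕ) : Cfsg.Spor.Th :=
  bif h then datHh.X gv (pget 20 liveHh i) else datM.X ev (pget 20 liveM i)

/-- a generator or the inverse of one -/
def genW (gens : List ℕ) (g : ℕ) : List ℕ :=
  bif Nat.blt g gens.length then fu (gens.getD g 0)
  else winv iv (fu (gens.getD (g - gens.length) 0))

/-- the generators fix their node -/
noncomputable def gensOK (nd : FNode) : Bool :=
  nd.gens.all fun f => Nat.blt f 7129 && Nat.beq (fn f) nd.id && Nat.beq (fm f) nd.id &&
    beqL (fv f) []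

/-- one entry of a forest -/
noncomputable def entOne (h : Bool) (nd : FNode) (K e : ℕ) (k : ℕ → Bool) : Bool :=
  force (e &&& 4095) fun p => force (e >>> 12) fun v =>
    Nat.blt p (sideN h) && !bget K p &&
    (bif Nat.beq (v &&& 1) 1 then
      force (v >>> 1) fun f => Nat.blt f 7129 && Nat.beq (fn f) nd.id &&
        (sideFin (!h)).any (fun j => Nat.beq (fm f) j) &&
        (winv iv (fu f)).all (sideIn h) && (fv f).all (sideIn (!h)) &&
        Nat.beq (walkV (sideCols h) ((winv iv (fu f)).map (sideLoc h)) 0) p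
    else
      force (v >>> 7) fun x => force ((v >>> 1) &&& 63) fun g =>
        bget K x && Nat.blt g (2 * nd.gens.length) && (genW nd.gens g).all (sideIn h) &&
          Nat.beq (walkV (sideCols h) ((genW nd.gens g).map (sideLoc h)) x) p) &&
    force (K ||| (1 <<< p)) k

/-- the entries of a forest in order -/
noncomputable def entAll (h : Bool) (nd : FNode) : List ℕ → ℕ → (ℕ → Bool) → Bool
  | [], K, k => k K
  | e :: es, K, k => entOne h nd K e fun K' => entAll h nd es K' k

/-- check a final node -/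
noncomputable def nodeClosed (h : Bool) (nd : FNode) : Bool :=
  gensOK nd && entAll h nd nd.ent.flatten 0 fun K => Nat.beq K (2 ^ sideN h - 1)

theorem gv_winv (w : List ℕ) : evalW gv (winv iv w) = (evalW gv w)⁻¹ := by
  induction w with
  | nil => simp [winv, evalW]
  | cons x w ih =>
    have h : winv iv (x :: w) = winv iv w ++ [linv iv x] := by simp [winv]
    rw [h, evalW_append, ih, evalW_cons, evalW_nil, mul_one, evalW_cons, mul_inv_rev, gv_inv]

theorem SA_le (h : Bool) : SA ≤ sideG h := by
  cases h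
  · exact upTo_ev ▸ upTo_mono ev (by norm_num)
  · exact upTo_mono gv (by norm_num)

theorem side_mem {h : Bool} {w : List ℕ} (hw : w.all (sideIn h) = true) :
    evalW gv w ∈ sideG h := by
  simp only [List.all_eq_true, sideIn] at hw
  cases h
  · refine list_prod_mem fun x hx => ?_
    obtain ⟨l, hl, rfl⟩ := List.mem_map.mp hx
    obtain ⟨h1, h2⟩ := cloc_lt (hw l hl)
    have := mem_upTo (e := ev) h1
    rwa [ev, h2] at this
  · exact evalW_mem_upTo fun l hl => blt_iff.mp (hw l hl)

theorem side_zero (h : Bool) : sideY h 0 = 1 := by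
  cases h <;> simp [sideY, liveM_zero, liveHh_zero, FD.X_zero]

theorem side_step {h : Bool} {i l : ℕ} (hi : i < sideN h) (hl : sideIn h l = true) :
    tget (sideCols h) i (sideLoc h l) < sideN h ∧
      sideY h i * gv l * (sideY h (tget (sideCols h) i (sideLoc h l)))⁻¹ ∈ SA := by
  cases h
  · obtain ⟨h1, h2⟩ := cloc_lt hl
    refine ⟨ltAll_sound ltM _ h1 i hi, ?_⟩
    have he := C_edge cletters hi h1
    rw [ev, h2] at he
    show datM.X ev (pget 20 liveM i) * gv l *
      (datM.X ev (pget 20 liveM (tget colsM i (cloc l))))⁻¹ ∈ SA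
    rw [he, mul_inv_cancel_right, ← upTo_ev]
    exact evalW_mem_upTo (e := ev) (FD.edgeLab_low (datM_sound cletters) _)
  · have h1 : l < 9 := blt_iff.mp hl
    exact ⟨ltAll_sound ltHh _ h1 i hi, H_edge hletters hi h1⟩

theorem side_walk {h : Bool} : ∀ (w : List ℕ) (i : ℕ), i < sideN h → w.all (sideIn h) = true →
    walkT (sideCols h) (w.map (sideLoc h)) i < sideN h ∧
      sideY h i * evalW gv w * (sideY h (walkT (sideCols h) (w.map (sideLoc h)) i))⁻¹ ∈ SA := by
  intro w
  induction w with
  | nil => intro i hi _; exact ⟨hi, by simp [walkT, evalW]⟩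
  | cons l w ih =>
    intro i hi hw
    simp only [List.all_cons, Bool.and_eq_true] at hw
    obtain ⟨h1, h2⟩ := side_step hi hw.1
    obtain ⟨h3, h4⟩ := ih _ h1 hw.2
    refine ⟨h3, ?_⟩
    have := mul_mem h2 h4
    simpa [evalW_cons, mul_assoc, walkT] using this

/-- what a forest shows about the points in `K` -/
def EInv (h : Bool) (nd : FNode) (K : ℕ) : Prop :=
  ∀ p, bget K p = true → p < sideN h ∧ ∀ a ∈ SA, ∃ j ∈ sideFin (!h), ∃ s ∈ sideG (!h),
    nodeX nd.id * (sideY h p)⁻¹ * a * (nodeX j * s)⁻¹ ∈ SH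

theorem entAll_sound {h : Bool} {nd : FNode} (hf : ∀ f, f < 7129 → KOK f)
    (hg : gensOK nd = true) : ∀ (es : List ℕ) (K : ℕ) (k : ℕ → Bool), EInv h nd K →
      entAll h nd es K k = true → ∃ K', k K' = true ∧ EInv h nd K' := by
  have hgen : ∀ g, g < 2 * nd.gens.length →
      nodeX nd.id * (evalW gv (genW nd.gens g))⁻¹ * (nodeX nd.id)⁻¹ ∈ SH := by
    intro g hlt
    have key : ∀ i, i < nd.gens.length →
        nodeX nd.id * evalW gv (fu (nd.gens.getD i 0)) * (nodeX nd.id)⁻¹ ∈ SH := by
      intro i hi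
      have h1 := List.all_eq_true.mp hg (nd.gens.getD i 0)
        (by rw [List.getD_eq_getElem _ _ hi]; exact List.getElem_mem hi)
      simp only [Bool.and_eq_true, Nat.beq_eq, blt_iff] at h1
      obtain ⟨⟨⟨h2, h3⟩, h4⟩, h5⟩ := h1
      have h6 := hf _ h2
      unfold KOK at h6
      rw [h3, h4, beqL_eq h5] at h6
      simpa [evalW, mul_assoc] using h6
    unfold genW
    cases hb : Nat.blt g nd.gens.length <;> simp only [cond_true, cond_false]
    · have : ¬ g < nd.gens.length := fun h1 => by rw [blt_iff.mpr h1] at hb; simp at hb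
      rw [gv_winv, inv_inv]
      exact key _ (by omega)
    · have := inv_mem (key g (blt_iff.mp hb))
      simpa [mul_assoc] using this
  intro es
  induction es with
  | nil => intro K k hK hk; exact ⟨K, hk, hK⟩
  | cons e es ih =>
    intro K k hK hk
    simp only [entAll, entOne, H45.force_eq, Bool.and_eq_true, blt_iff] at hk
    obtain ⟨⟨⟨hp, -⟩, hcase⟩, hk⟩ := hk
    refine ih _ k ?_ hk
    intro q hq
    rw [bget_set] at hq
    simp only [Bool.or_eq_true, decide_eq_true_eq] at hq
    rcases hq with hq | rfl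
    · exact hK q hq
    refine ⟨hp, fun a ha => ?_⟩
    cases hr : Nat.beq ((e >>> 12) &&& 1) 1 <;>
      simp only [hr, cond_true, cond_false, Bool.and_eq_true, Nat.beq_eq, blt_iff,
        List.any_eq_true, walkV, walkC_map] at hcase
    · obtain ⟨⟨⟨hx, hg'⟩, hv⟩, hw⟩ := hcase
      obtain ⟨hxn, hx'⟩ := hK _ hx
      obtain ⟨-, h0⟩ := side_walk _ _ hxn hv
      rw [hw] at h0
      obtain ⟨j, hj, s, hs, hmem⟩ := hx' _ (mul_mem h0 ha)
      refine ⟨j, hj, s, hs, ?_⟩
      have := mul_mem (hgen _ hg') hmem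
      convert this using 1
      group
    · obtain ⟨⟨⟨⟨⟨hflt, hfn⟩, j, hj, hfj⟩, hu⟩, hv⟩, hw⟩ := hcase
      obtain ⟨-, h0⟩ := side_walk _ 0 (by cases h <;> norm_num [sideN]) hu
      rw [hw, gv_winv, side_zero, one_mul] at h0
      generalize ha0 : (evalW gv (fu ((e >>> 12) >>> 1)))⁻¹ * (sideY h (e &&& 4095))⁻¹ = a0 at h0
      refine ⟨j, hj, evalW gv (fv ((e >>> 12) >>> 1)) * (a0 * a),
        mul_mem (side_mem hv) (SA_le _ (mul_mem h0 ha)), ?_⟩
      have h1 := hf _ hflt
      unfold KOK at h1
      rw [hfn, hfj] at h1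
      convert h1 using 1
      rw [← ha0]
      group

theorem nodeClosed_sound {h : Bool} {nd : FNode} (hf : ∀ f, f < 7129 → KOK f)
    (hc : nodeClosed h nd = true) (hcov : ∀ g ∈ sideG h, ∃ p, p < sideN h ∧ g * (sideY h p)⁻¹ ∈ SA) :
    ∀ g ∈ sideG h, ∃ j ∈ sideFin (!h), ∃ s ∈ sideG (!h),
      nodeX nd.id * g * (nodeX j * s)⁻¹ ∈ SH := by
  simp only [nodeClosed, Bool.and_eq_true] at hc
  obtain ⟨hg, hc⟩ := hc
  obtain ⟨K, hK, hI⟩ := entAll_sound hf hg _ 0 _ (by intro p hp; simp [bget_eq] at hp) hc
  simp only [Nat.beq_eq] at hK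
  intro g hgS
  obtain ⟨p, hp, ha⟩ := hcov g⁻¹ (inv_mem hgS)
  have hbit : bget K p = true := by
    rw [bget_eq, hK, Nat.testBit_two_pow_sub_one, decide_eq_true_eq]; exact hp
  obtain ⟨j, hj, s, hs, hmem⟩ := (hI p hbit).2 _ (inv_mem ha)
  refine ⟨j, hj, s, hs, ?_⟩
  convert hmem using 1
  group

end Cfsg.Agent.H25.Th
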