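import Cfsg.Agent.H25.Th.FoldAll
import Cfsg.Agent.H25.Th.FoldClose
import Cfsg.Agent.H25.Th.FoldFinal
import Cfsg.Agent.H40.Th.Main

/-!
Upper bounds in the presented Thompson group: the cosets of `H` are covered by eleven orbits of `H`
of total length 143127000, and by thirteen double cosets `H g C`.
-/

set_option autoImplicit false
set_option maxRecDepth 100000

namespace Cfsg.Agent.H25.Th

open Cfsg.Agent.H45 Cfsg.Agent.H40.Th

/-! ### the cover -/

theorem closeH_ok : (closeH.all (nodeClosed true) && beqL (closeH.map FNode.id) finH) = true := by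
  decide +kernel

theorem closeC_ok : (closeC.all (nodeClosed false) && beqL (closeC.map FNode.id) finC) = true := by
  decide +kernel

theorem side_cov (h : Bool) :
    ∀ g ∈ sideG h, ∃ p, p < sideN h ∧ g * (sideY h p)⁻¹ ∈ SA := by
  cases h
  · exact upTo_ev ▸ (C_card cletters).1
  · exact (H_card hletters).1

/-- `x` lies in `H X_i S` for a final node `i` of the side -/
def InU (h : Bool) (x : Cfsg.Spor.Th) : Prop :=
  ∃ i ∈ sideFin h, ∃ s ∈ sideG h, x * (nodeX i * s)⁻¹ ∈ SH

theorem inU_swap {h : Bool} {x : Cfsg.Spor.Th} (hx : InU h x) : InU (!h) x := by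
  obtain ⟨i, hi, s, hs, hxs⟩ := hx
  have hok : (sideFin h).all (fun i => (bif h then closeH else closeC).any fun nd =>
      Nat.beq nd.id i && nodeClosed h nd) = true := by
    rw [List.all_eq_true]
    intro j hj
    rw [List.any_eq_true]
    cases h
    · have hc := closeC_ok
      simp only [Bool.and_eq_true, List.all_eq_true] at hc
      have hj' : j ∈ closeC.map FNode.id := by rw [beqL_eq hc.2]; exact hj
      obtain ⟨nd, hnd, rfl⟩ := List.mem_map.mp hj'
      exact ⟨nd, hnd, by simp [hc.1 nd hnd]⟩
    · have hc := closeH_ok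
      simp only [Bool.and_eq_true, List.all_eq_true] at hc
      have hj' : j ∈ closeH.map FNode.id := by rw [beqL_eq hc.2]; exact hj
      obtain ⟨nd, hnd, rfl⟩ := List.mem_map.mp hj'
      exact ⟨nd, hnd, by simp [hc.1 nd hnd]⟩
  obtain ⟨nd, -, hnd⟩ := List.any_eq_true.mp (List.all_eq_true.mp hok i hi)
  simp only [Bool.and_eq_true, Nat.beq_eq] at hnd
  obtain ⟨j, hj, t, ht, hmem⟩ := nodeClosed_sound foldFacts hnd.2 (side_cov h) s hs
  rw [hnd.1] at hmem
  exact ⟨j, hj, t, ht, by simpa [mul_assoc] using mul_mem hxs hmem⟩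

theorem inU_mul {h : Bool} {x g : Cfsg.Spor.Th} (hx : InU h x) (hg : g ∈ sideG h) :
    InU h (x * g) := by
  obtain ⟨i, hi, s, hs, hxs⟩ := hx
  refine ⟨i, hi, s * g, mul_mem hs hg, ?_⟩
  convert hxs using 1
  group

theorem inU_all (x : Cfsg.Spor.Th) : InU true x := by
  have key : ∀ g ∈ Subgroup.closure (Set.range (PresentedGroup.of
      (rels := Cfsg.Spor.coxRelators Cfsg.Spor.Th.edges ∪ {r | r ∈ Cfsg.Spor.Th.extra}))),
      ∀ y, InU true y → InU true (y * g) := by
    intro g hg
    induction hg using Subgroup.closure_induction'' with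
    | one => intro y hy; simpa using hy
    | mem g hg =>
      obtain ⟨l, rfl⟩ := hg
      intro y hy
      by_cases hu : l = Cfsg.Spor.Th.Gen.u
      · subst hu
        exact inU_swap (inU_mul (inU_swap hy)
          (show gen .u ∈ SC from mem_upTo (e := ev) (l := 8) (by norm_num)))
      · refine inU_mul hy (show gen l ∈ SH from ?_)
        cases l
        case u => exact absurd rfl hu
        case a => exact mem_upTo (e := gv) (l := 6) (by norm_num)
        case b => exact mem_upTo (e := gv) (l := 8) (by norm_num)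
        case c => exact mem_upTo (e := gv) (l := 7) (by norm_num)
        case d => exact mem_upTo (e := gv) (l := 0) (by norm_num)
        case e => exact mem_upTo (e := gv) (l := 1) (by norm_num)
        case s => exact mem_upTo (e := gv) (l := 2) (by norm_num)
        case t => exact mem_upTo (e := gv) (l := 4) (by norm_num)
    | inv_mem g hg =>
      obtain ⟨l, rfl⟩ := hg
      intro y hy
      by_cases hu : l = Cfsg.Spor.Th.Gen.u
      · subst hu
        exact inU_swap (inU_mul (inU_swap hy)
          (inv_mem (show gen .u ∈ SC from mem_upTo (e := ev) (l := 8) (by norm_num))))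
      · refine inU_mul hy (inv_mem (show gen l ∈ SH from ?_))
        cases l
        case u => exact absurd rfl hu
        case a => exact mem_upTo (e := gv) (l := 6) (by norm_num)
        case b => exact mem_upTo (e := gv) (l := 8) (by norm_num)
        case c => exact mem_upTo (e := gv) (l := 7) (by norm_num)
        case d => exact mem_upTo (e := gv) (l := 0) (by norm_num)
        case e => exact mem_upTo (e := gv) (l := 1) (by norm_num)
        case s => exact mem_upTo (e := gv) (l := 2) (by norm_num)
        case t => exact mem_upTo (e := gv) (l := 4) (by norm_num)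
    | mul a b _ _ iha ihb => intro y hy; simpa [mul_assoc] using ihb _ (iha y hy)
  have h1 : InU true 1 :=
    ⟨0, by decide, 1, one_mem _, by simp [nodeX_zero]⟩
  simpa using key x (by rw [PresentedGroup.closure_range_of]; trivial) 1 h1

/-! ### the count -/

/-- a chain given in generators of a stabiliser, as letters -/
def expand (gens : List ℕ) (lv : Lvl) : Lvl :=
  ⟨lv.base, lv.gens.map fun g => (g.map (genW gens)).flatten, lv.count, lv.steps⟩

/-- check the lower bound of one stabiliser -/
noncomputable def stabOne (i : ℕ) : Bool :=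
  let nd := closeH.getD i ⟨0, [], []⟩
  let lvs := stabH.getD i []
  gensOK nd &&
    lvs.all (fun lv => lv.gens.all fun g => g.all fun x => Nat.blt x (2 * nd.gens.length)) &&
    chainCheck 9 819 cols819 (lvs.map (expand nd.gens)) &&
    Nat.beq (chainProd (lvs.map (expand nd.gens))) (stabSize.getD i 0)

theorem stab_ok : ∀ i : Fin 11, stabOne i = true := by decide +kernel

/-- the pairs of values and permutations of the letters of `H` -/
abbrev KH : Subgroup (Cfsg.Spor.Th × Equiv.Perm (Fin 819)) :=
  upTo (pairE (permCheck_PT permH) gv) 9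

theorem KH_card : Finite KH ∧ Nat.card KH ≤ 634023936 :=
  (H_card ⟨pairE_inv _ hletters.1, pairE_rel permH hletters.2⟩).2

/-- the first projection -/
def projG : KH →* Cfsg.Spor.Th :=
  (MonoidHom.fst Cfsg.Spor.Th (Equiv.Perm (Fin 819))).comp KH.subtype

/-- the second projection -/
def projP : KH →* Equiv.Perm (Fin 819) :=
  (MonoidHom.snd Cfsg.Spor.Th (Equiv.Perm (Fin 819))).comp KH.subtype

theorem SH_le_range : SH ≤ projG.range := by
  refine (Subgroup.closure_le _).mpr ?_
  rintro _ ⟨l, hl, rfl⟩
  exact ⟨⟨_, mem_upTo (e := pairE (permCheck_PT permH) gv) hl⟩, rfl⟩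

/-- the point of a final node -/
def hPt (i : Fin 11) : Cfsg.Spor.Th ⧸ SH :=
  QuotientGroup.mk (nodeX (closeH.getD i ⟨0, [], []⟩).id)⁻¹

/-- the stabiliser of the point of a final node -/
def hStab (i : Fin 11) : Subgroup KH :=
  (MulAction.stabilizer Cfsg.Spor.Th (hPt i)).comap projG

theorem mem_hStab {i : Fin 11} {k : KH}
    (h : nodeX (closeH.getD i ⟨0, [], []⟩).id * projG k *
      (nodeX (closeH.getD i ⟨0, [], []⟩).id)⁻¹ ∈ SH) : k ∈ hStab i := by
  simp only [hStab, Subgroup.mem_comap, MulAction.mem_stabilizer_iff, hPt,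
    MulAction.Quotient.smul_mk]
  refine QuotientGroup.eq.mpr ?_
  have := inv_mem h
  simpa [mul_assoc] using this

theorem stabSize_pos : ∀ i : Fin 11, 0 < stabSize.getD i 0 := by decide +kernel

theorem hStab_index (i : Fin 11) :
    (hStab i).index ≤ 634023936 / stabSize.getD i 0 := by
  have hok := stab_ok i
  simp only [stabOne, Bool.and_eq_true, Nat.beq_eq] at hok
  obtain ⟨⟨⟨hg, hidx⟩, hc⟩, hprod⟩ := hok
  have := KH_card.1
  have hfix : ∀ x, x < 2 * (closeH.getD i ⟨0, [], []⟩).gens.length →
      nodeX (closeH.getD i ⟨0, [], []⟩).id * evalW gv (genW (closeH.getD i ⟨0, [], []⟩).gens x) *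
        (nodeX (closeH.getD i ⟨0, [], []⟩).id)⁻¹ ∈ SH := by
    generalize closeH.getD i ⟨0, [], []⟩ = nd at hg
    have key : ∀ j, j < nd.gens.length →
        nodeX nd.id * evalW gv (fu (nd.gens.getD j 0)) * (nodeX nd.id)⁻¹ ∈ SH := by
      intro j hj
      have h1 := List.all_eq_true.mp hg (nd.gens.getD j 0)
        (by rw [List.getD_eq_getElem _ _ hj]; exact List.getElem_mem hj)
      simp only [Bool.and_eq_true, Nat.beq_eq, blt_iff] at h1
      obtain ⟨⟨⟨h2, h3⟩, h4⟩, h5⟩ := h1
      have h6 := foldFacts _ h2
      unfold KOK at h6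
      rw [h3, h4, beqL_eq h5] at h6
      simpa [evalW, mul_assoc] using h6
    intro x hx
    unfold genW
    cases hb : Nat.blt x nd.gens.length <;> simp only [cond_true, cond_false]
    · have : ¬ x < nd.gens.length := fun h1 => by rw [blt_iff.mpr h1] at hb; simp at hb
      rw [gv_winv]
      simpa [mul_assoc] using inv_mem (key (x - nd.gens.length) (by omega))
    · exact key x (blt_iff.mp hb)
  have hlow : chainProd ((stabH.getD i []).map (expand (closeH.getD i ⟨0, [], []⟩).gens)) ≤
      Nat.card ((hStab i).map projP) := by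
    refine chainCheck_sound (permCheck_PT permH) hc _ fun lv hlv g hgm => ?_
    have hlet := chainCheck_letters hc lv hlv g hgm
    refine ⟨⟨_, evalW_mem_upTo (e := pairE (permCheck_PT permH) gv) hlet⟩, mem_hStab ?_, ?_⟩
    · obtain ⟨lv0, hlv0, rfl⟩ := List.mem_map.mp hlv
      obtain ⟨g0, hg0, rfl⟩ := List.mem_map.mp hgm
      simp only [projG, MonoidHom.comp_apply, Subgroup.coe_subtype, MonoidHom.coe_fst, evalW_pair]
      have hx : ∀ x ∈ g0, x < 2 * (closeH.getD i ⟨0, [], []⟩).gens.length := fun x hx =>
        blt_iff.mp (List.all_eq_true.mp (List.all_eq_true.mp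
          (List.all_eq_true.mp hidx lv0 hlv0) g0 hg0) x hx)
      clear hgm hlet hlv hg0
      induction g0 with
      | nil => simp [evalW]
      | cons y g0 ih =>
        have := mul_mem (hfix y (hx y (by simp))) (ih fun x h => hx x (by simp [h]))
        simpa [evalW_append, mul_assoc] using this
    · simp [projP, evalW_pair]
  have h2 : Nat.card ((hStab i).map projP) ≤ Nat.card (hStab i) :=
    Nat.card_le_card_of_surjective (projP.subgroupMap (hStab i))
      (projP.subgroupMap_surjective (hStab i))
  have hpos : 0 < stabSize.getD i 0 := stabSize_pos i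
  rw [Nat.le_div_iff_mul_le hpos]
  calc (hStab i).index * stabSize.getD i 0 ≤ (hStab i).index * Nat.card (hStab i) := by
        rw [← hprod]; exact Nat.mul_le_mul_left _ (hlow.trans h2)
    _ = Nat.card KH := by rw [mul_comm, Subgroup.card_mul_index]
    _ ≤ 634023936 := KH_card.2

theorem finH_ids : beqL ((List.range 11).map fun i => (closeH.getD i ⟨0, [], []⟩).id) finH = true := by
  decide +kernel

/-- `H` has at most 143127000 cosets -/
theorem SH_index : Finite (Cfsg.Spor.Th ⧸ SH) ∧ SH.index ≤ 143127000 := by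
  have := KH_card.1
  let f : (Σ i : Fin 11, KH ⧸ hStab i) → Cfsg.Spor.Th ⧸ SH := fun z =>
    Quotient.liftOn' z.2 (fun k => projG k • hPt z.1) (by
      intro a b hab
      have h : a⁻¹ * b ∈ hStab z.1 := QuotientGroup.leftRel_apply.mp hab
      rw [hStab, Subgroup.mem_comap, MulAction.mem_stabilizer_iff, map_mul, map_inv, mul_smul,
        inv_smul_eq_iff] at h
      exact h.symm)
  have hf : Function.Surjective f := by
    intro q
    obtain ⟨x, rfl⟩ := QuotientGroup.mk_surjective q
    obtain ⟨i, hi, s, hs, hmem⟩ := inU_all x⁻¹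
    rw [sideFin, cond_true, ← beqL_eq finH_ids, List.mem_map] at hi
    obtain ⟨j, hj, rfl⟩ := hi
    obtain ⟨k, hk⟩ := SH_le_range (inv_mem hs)
    refine ⟨⟨⟨j, List.mem_range.mp hj⟩, QuotientGroup.mk k⟩, ?_⟩
    show projG k • hPt _ = _
    rw [hk, hPt, MulAction.Quotient.smul_mk]
    refine QuotientGroup.eq.mpr ?_
    have := inv_mem hmem
    simpa [mul_assoc] using this
  have hfin : Finite (Cfsg.Spor.Th ⧸ SH) := Finite.of_surjective f hf
  refine ⟨hfin, ?_⟩
  rw [Subgroup.index]
  refine (Nat.card_le_card_of_surjective f hf).trans ?_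
  rw [Nat.card_sigma]
  calc ∑ i : Fin 11, Nat.card (KH ⧸ hStab i)
      ≤ ∑ i : Fin 11, 634023936 / stabSize.getD i 0 := Finset.sum_le_sum fun i _ => hStab_index i
    _ = 143127000 := by decide +kernel

/-! ### exports -/

theorem HH_eq : HH = SH := by
  apply le_antisymm <;> refine (Subgroup.closure_le _).mpr ?_
  · intro x hx
    simp only [Set.mem_insert_iff, Set.mem_singleton_iff] at hx
    rcases hx with rfl | rfl | rfl | rfl | rfl | rfl | rfl
    · exact mem_upTo (e := gv) (l := 6) (by norm_num)
    · exact mem_upTo (e := gv) (l := 8) (by norm_num)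
    · exact mem_upTo (e := gv) (l := 7) (by norm_num)
    · exact mem_upTo (e := gv) (l := 0) (by norm_num)
    · exact mem_upTo (e := gv) (l := 1) (by norm_num)
    · exact mem_upTo (e := gv) (l := 2) (by norm_num)
    · exact mem_upTo (e := gv) (l := 4) (by norm_num)
  · rintro _ ⟨l, hl, rfl⟩
    have hg : ∀ g : Cfsg.Spor.Th.Gen, g ≠ .u → gen g ∈ HH := fun g hg => by
      apply Subgroup.subset_closure; cases g <;> simp at hg ⊢
    interval_cases l <;>
      first
        | exact hg _ (by decide)
        | exact inv_mem (hg _ (by decide))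

theorem CC_eq : CC = SC := by
  apply le_antisymm <;> refine (Subgroup.closure_le _).mpr ?_
  · intro x hx
    simp only [Set.mem_insert_iff, Set.mem_singleton_iff] at hx
    rcases hx with rfl | rfl | rfl | rfl | rfl | rfl | rfl
    · exact mem_upTo (e := ev) (l := 6) (by norm_num)
    · exact mem_upTo (e := ev) (l := 7) (by norm_num)
    · exact mem_upTo (e := ev) (l := 0) (by norm_num)
    · exact mem_upTo (e := ev) (l := 1) (by norm_num)
    · exact mem_upTo (e := ev) (l := 2) (by norm_num)
    · exact mem_upTo (e := ev) (l := 4) (by norm_num)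
    · exact mem_upTo (e := ev) (l := 8) (by norm_num)
  · rintro _ ⟨l, hl, rfl⟩
    have hg : ∀ g : Cfsg.Spor.Th.Gen, g ≠ .b → gen g ∈ CC := fun g hg => by
      apply Subgroup.subset_closure; cases g <;> simp at hg ⊢
    interval_cases l <;>
      first
        | exact hg _ (by decide)
        | exact inv_mem (hg _ (by decide))

theorem AA_eq : AA = SA := by
  apply le_antisymm <;> refine (Subgroup.closure_le _).mpr ?_
  · intro x hx
    simp only [Set.mem_insert_iff, Set.mem_singleton_iff] at hx
    rcases hx with rfl | rfl | rfl | rfl | rfl | rfl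
    · exact mem_upTo (e := gv) (l := 6) (by norm_num)
    · exact mem_upTo (e := gv) (l := 7) (by norm_num)
    · exact mem_upTo (e := gv) (l := 0) (by norm_num)
    · exact mem_upTo (e := gv) (l := 1) (by norm_num)
    · exact mem_upTo (e := gv) (l := 2) (by norm_num)
    · exact mem_upTo (e := gv) (l := 4) (by norm_num)
  · rintro _ ⟨l, hl, rfl⟩
    have hg : ∀ g : Cfsg.Spor.Th.Gen, g ≠ .b → g ≠ .u → gen g ∈ AA := fun g hg hg' => by
      apply Subgroup.subset_closure; cases g <;> simp at hg hg' ⊢
    interval_cases l <;>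
      first
        | exact hg _ (by decide) (by decide)
        | exact inv_mem (hg _ (by decide) (by decide))

theorem card_HH_le : Finite HH ∧ Nat.card HH ≤ 634023936 := HH_eq ▸ (H_card hletters).2

theorem card_CC_le : Finite CC ∧ Nat.card CC ≤ 92897280 := CC_eq ▸ (C_card cletters).2

theorem card_AA_le : Finite AA ∧ Nat.card AA ≤ 774144 :=
  AA_eq ▸ A_bound hletters.invA hletters.relA1

theorem index_le : HH.index ≤ 143127000 := HH_eq ▸ SH_index.2

theorem finite : Finite Cfsg.Spor.Th := by
  have h1 : Finite SH := (H_card hletters).2.1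
  have h2 := SH_index.1
  exact Finite.of_equiv _ (Subgroup.groupEquivQuotientProdSubgroup (s := SH)).symm

theorem card_le : Nat.card Cfsg.Spor.Th ≤ 90745943887872000 := by
  rw [← Subgroup.card_mul_index SH]
  exact (Nat.mul_le_mul (H_card hletters).2.2 SH_index.2).trans (by norm_num)

/-! ### representatives as words -/

/-- word of a node -/
def nodeWn : ℕ → ℕ → List ℕ
  | 0, _ => []
  | fuel + 1, m =>
    if m = 0 then []
    else if fn (npar m) < m then nodeWn fuel (fn (npar m)) ++ fu (npar m) else []

theorem nodeWn_eval : ∀ fuel m, evalW gv (nodeWn fuel m) = nodeXn fuel m := by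
  intro fuel
  induction fuel with
  | zero => intro m; simp [nodeWn, nodeXn, evalW]
  | succ fuel ih =>
    intro m
    simp only [nodeWn, nodeXn]
    split_ifs <;> simp [evalW_nil, evalW_append, ih]

/-- signed generators of a word -/
def signs (w : List ℕ) : List (Cfsg.Spor.Th.Gen × Bool) := w.map fun l => lsign.getD l (.d, true)

theorem wval_signs {w : List ℕ} (hw : ∀ l ∈ w, l < 11) : wval (signs w) = evalW gv w := by
  simp only [wval, signs, evalW, List.map_map]
  refine congrArg List.prod (List.map_congr_left fun l hl => ?_)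
  have h := hw l hl
  interval_cases l <;> rfl

/-- representatives of the double cosets `H g C` -/
def cWord (i : ℕ) : List (Cfsg.Spor.Th.Gen × Bool) :=
  signs (nodeWn (finC.getD i 0) (finC.getD i 0))

theorem finC_words : finC.all (fun m => (nodeWn m m).all fun l => Nat.blt l 11) = true := by
  decide +kernel

theorem cover : ∀ x : Cfsg.Spor.Th, ∃ i < 13, ∃ h ∈ HH, ∃ c ∈ CC, x = h * wval (cWord i) * c := by
  intro x
  obtain ⟨m, hm, c, hc, hmem⟩ := inU_swap (inU_all x)
  obtain ⟨i, hi, rfl⟩ := List.getElem_of_mem (show m ∈ finC from hm)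
  refine ⟨i, hi, x * (nodeX finC[i] * c)⁻¹, HH_eq ▸ hmem, c, CC_eq ▸ hc, ?_⟩
  rw [cWord, List.getD_eq_getElem _ _ hi, wval_signs fun l hl => blt_iff.mp
    (List.all_eq_true.mp (List.all_eq_true.mp finC_words _ (List.getElem_mem hi)) l hl),
    nodeWn_eval]
  show x = x * (nodeX finC[i] * c)⁻¹ * nodeX finC[i] * c
  group

/-- word of a coset of `A` in `H` -/
def hWn : ℕ → ℕ → List ℕ
  | 0, _ => []
  | fuel + 1, q =>
    if q = 0 then []
    else if datHh.fp (datHh.fpar q) < q then hWn fuel (datHh.fp (datHh.fpar q)) ++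
      (if datHh.fl (datHh.fpar q) < 9 then [datHh.fl (datHh.fpar q)] else [])
    else []

theorem hWn_eval : ∀ fuel q, evalW gv (hWn fuel q) = datHh.Xn gv fuel q ∧
    ∀ l ∈ hWn fuel q, l < 9 := by
  intro fuel
  induction fuel with
  | zero => intro q; simp [hWn, FD.Xn, evalW]
  | succ fuel ih =>
    intro q
    simp only [hWn, FD.Xn]
    split_ifs with h1 h2 h3
    · simp [evalW]
    · refine ⟨?_, ?_⟩
      · rw [evalW_append, (ih _).1, trim_of_lt (show _ < datHh.L from h3)]
        simp [evalW]
      · intro l hl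
        rcases List.mem_append.mp hl with hl | hl
        · exact (ih _).2 l hl
        · rw [List.mem_singleton.mp hl]; exact h3
    · refine ⟨?_, ?_⟩
      · rw [List.append_nil, (ih _).1, trim, if_neg (show ¬ _ < datHh.L from h3), mul_one]
      · intro l hl
        rw [List.append_nil] at hl
        exact (ih _).2 l hl
    · simp [evalW]

/-- representatives of the cosets of `A` in `H`, in the numbering of `colsHh` -/
def hWord (i : ℕ) : List (Cfsg.Spor.Th.Gen × Bool) :=
  signs (hWn (pget 20 liveHh i) (pget 20 liveHh i))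

theorem wval_hWord (i : ℕ) : wval (hWord i) = datHh.X gv (pget 20 liveHh i) := by
  rw [hWord, wval_signs fun l hl => lt_trans ((hWn_eval _ _).2 l hl) (by norm_num),
    (hWn_eval _ _).1]
  rfl

theorem H819 : ∀ h ∈ HH, ∃ i < 819, h * (wval (hWord i))⁻¹ ∈ AA := by
  intro h hh
  rw [HH_eq] at hh
  obtain ⟨i, hi, hm⟩ := (H_card hletters).1 h hh
  exact ⟨i, hi, by rw [wval_hWord, AA_eq]; exact hm⟩

theorem H819_edge {i l : ℕ} (hi : i < 819) (hl : l < 9) :
    wval (hWord i) * gv l * (wval (hWord (tget colsHh i l)))⁻¹ ∈ AA := by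
  rw [wval_hWord, wval_hWord, AA_eq]
  exact H_edge hletters hi hl

end Cfsg.Agent.H25.Th
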