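import Cfsg.Agent.H40.Th.NodeCheck

/-!
A light certificate that a word does not conjugate `a` to an `H`-conjugate of `a`: one row of the
two products with the projection differs.
-/

set_option autoImplicit false
set_option maxRecDepth 100000

namespace Cfsg.Agent.H25.Th

open Matrix Cfsg.Agent.H32 ThRep Cfsg.Agent.H40.Th

attribute [local irreducible] ThRep.gm ThRep.gi ThRep.mat ThRep.rep248 ThRep.chk ThRep.okMat
  ThRep.idN Proj.mP

/-- row `i` of the projection, as the first row of a matrix -/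
def projRow (i : ℕ) : ℕ := Proj.mP / (2 ^ wd 248) ^ i % 2 ^ wd 248

/-- the unit row `i`, as the first row of a matrix -/
def unitRow (i : ℕ) : ℕ := 4096 ^ i

/-- the check of one entry -/
def rowOK (w : List (Cfsg.Spor.Th.Gen × Bool)) (i j : ℕ) : Bool :=
  Nat.blt i 248 && Nat.blt j 248 && okMat 248 (projRow i) && okMat 248 (unitRow i) &&
    (List.range 248).all (fun k => Nat.beq (ent 248 (unitRow i) 0 k) (if k = i then 1 else 0)) &&
    ThRep.force (evalV (conjW w) (projRow i)) fun Z1 =>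
      chk 248 ((conjW w).map lm) (projRow i) Z1 &&
        ThRep.force (evalV (conjW w) (unitRow i)) fun Z2 =>
          chk 248 ((conjW w).map lm) (unitRow i) Z2 && okMat 248 Z2 &&
            stepOK 248 (prodRaw 248 Z2 Proj.mP) (mulV Z2 Proj.mP) &&
              !Nat.beq (ent 248 Z1 0 j % 3) (ent 248 (mulV Z2 Proj.mP) 0 j % 3)

theorem ent_row (n X i j : ℕ) :
    ThRep.ent n (X / (2 ^ wd n) ^ i % 2 ^ wd n) 0 j = ThRep.ent n X i j := by
  simp [ThRep.ent, Nat.mod_mod]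

theorem ent_projRow (i j : ℕ) : ThRep.ent 248 (projRow i) 0 j = ThRep.ent 248 Proj.mP i j :=
  ent_row 248 Proj.mP i j

attribute [local irreducible] projRow unitRow ThRep.ent ThRep.mulV ThRep.prodRaw ThRep.stepOK evalV
  P52

theorem P52_def : P52 = mat 248 Proj.mP := by unfold P52; rfl

theorem mat_apply (X : ℕ) (i j : Fin 248) : mat 248 X i j = (ent 248 X i j : ZMod 3) := by
  unfold ThRep.mat; rfl

theorem row_sound {w : List (Cfsg.Spor.Th.Gen × Bool)} {i j : ℕ} (h : rowOK w i j = true)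
    {x : Cfsg.Spor.Th} (hx : x ∈ HH) : wval w * Cfsg.Agent.H40.Th.gen .a * (wval w)⁻¹ ≠ x⁻¹ * Cfsg.Agent.H40.Th.gen .a * x := by
  intro heq
  simp only [rowOK, ThRep.force_eq, Bool.and_eq_true, Bool.not_eq_true'] at h
  obtain ⟨⟨⟨⟨⟨hi, hj⟩, hR⟩, hU⟩, hunit⟩, hc1, ⟨⟨hc2, hZ⟩, hst⟩, hne⟩ := h
  set Z1 := evalV (conjW w) (projRow i)
  set Z2 := evalV (conjW w) (unitRow i)
  have hi' : i < 248 := Nat.le_of_ble_eq_true hi
  have hj' : j < 248 := Nat.le_of_ble_eq_true hj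
  have hok : ∀ X ∈ (conjW w).map lm, okMat 248 X = true := fun X hX => by
    obtain ⟨l, -, rfl⟩ := List.mem_map.1 hX
    exact ThRep.okMat_lm l
  have hY : ((( conjW w).map lm).map (mat 248)).prod = rm (x⁻¹ * Cfsg.Agent.H40.Th.gen .a * x) := by
    rw [← rm_wval, wval_conjW, heq]
  have h1 := chk_sound (n := 248) (by norm_num) hok hR hc1
  have h2 := chk_sound (n := 248) (by norm_num) hok hU hc2
  rw [hY] at h1 h2
  obtain ⟨-, h3⟩ := mat_mulV hZ ok_P hst
  have hcomm := commute_of_conj hx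
  set Y := rm (x⁻¹ * Cfsg.Agent.H40.Th.gen .a * x)
  have hrow : ∀ k, mat 248 (projRow i) ⟨0, by norm_num⟩ k = P52 ⟨i, hi'⟩ k := fun k => by
    rw [P52_def, mat_apply, mat_apply, ent_projRow]
  have hu : ∀ k : Fin 248, mat 248 (unitRow i) ⟨0, by norm_num⟩ k =
      if k = ⟨i, hi'⟩ then 1 else 0 := fun k => by
    rw [mat_apply]
    have := List.all_eq_true.mp hunit k (List.mem_range.mpr k.isLt)
    rw [Nat.beq_eq] at this
    rw [this]
    rcases eq_or_ne k ⟨i, hi'⟩ with rfl | hk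
    · simp
    · rw [if_neg hk, if_neg (fun h => hk (Fin.ext h))]; simp
  have e1 : mat 248 Z1 ⟨0, by norm_num⟩ ⟨j, hj'⟩ = (P52 * Y) ⟨i, hi'⟩ ⟨j, hj'⟩ := by
    rw [← h1, Matrix.mul_apply, Matrix.mul_apply]
    exact Finset.sum_congr rfl fun k _ => by rw [hrow]
  have e2 : mat 248 (mulV Z2 Proj.mP) ⟨0, by norm_num⟩ ⟨j, hj'⟩ = (Y * P52) ⟨i, hi'⟩ ⟨j, hj'⟩ := by
    rw [h3, ← h2, P52_def, Matrix.mul_apply, Matrix.mul_apply]
    have hu2 : ∀ k, (mat 248 (unitRow i) * Y) ⟨0, by norm_num⟩ k = Y ⟨i, hi'⟩ k := fun k => by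
      rw [Matrix.mul_apply]
      simp only [hu]
      simp
    exact Finset.sum_congr rfl fun k _ => by rw [hu2]
  rw [hcomm, ← e2, mat_apply, mat_apply, ZMod.natCast_eq_natCast_iff'] at e1
  have h4 : Nat.beq (ent 248 Z1 0 j % 3) (ent 248 (mulV Z2 Proj.mP) 0 j % 3) = true := by
    rw [Nat.beq_eq]; exact e1
  rw [h4] at hne
  exact Bool.noConfusion hne

end Cfsg.Agent.H25.Th
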