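import Cfsg.Agent.H25.Th.NodeVec
import Cfsg.Agent.H25.Th.Main

/-!
Certificates for the double cosets, part 3.
-/

set_option autoImplicit false
set_option maxRecDepth 100000

namespace Cfsg.Agent.H25.Th

open Cfsg.Agent.H40.Th

theorem node7_ok : rowOK (cWord 7) 0 1 = true := by decide +kernel

theorem node8_ok : rowOK (cWord 8) 0 1 = true := by decide +kernel

end Cfsg.Agent.H25.Th
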