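import Cfsg.Agent.H25.Th.Nodes0
import Cfsg.Agent.H25.Th.Nodes1
import Cfsg.Agent.H25.Th.Nodes2
import Cfsg.Agent.H25.Th.Nodes3
import Cfsg.Agent.H25.Th.Nodes4
import Cfsg.Agent.H25.Th.Nodes5
import Cfsg.Agent.H25.Th.Nodes6

/-!
Certificates for the thirteen double cosets.
-/
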