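import Cfsg.Agent.H45.CosetGroup

/-!
Order bounds from closed tables, and equality of group elements from the images of few points.
-/

set_option autoImplicit false

namespace Cfsg.Agent.H25.Th

open Cfsg.Agent.H45

variable {G : Type*} [Group G]

/-- the subgroup of the first `L` letters -/
def upTo (e : ℕ → G) (L : ℕ) : Subgroup G := Subgroup.closure {g | ∃ l < L, e l = g}

theorem mem_upTo {e : ℕ → G} {L l : ℕ} (h : l < L) : e l ∈ upTo e L :=
  Subgroup.subset_closure ⟨l, h, rfl⟩

theorem evalW_mem_upTo {e : ℕ → G} {L : ℕ} {w : List ℕ} (hw : ∀ l ∈ w, l < L) :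
    evalW e w ∈ upTo e L := by
  apply list_prod_mem
  intro x hx
  obtain ⟨l, hl, rfl⟩ := List.mem_map.mp hx
  exact mem_upTo (hw l hl)

theorem upTo_zero (e : ℕ → G) : upTo e 0 = ⊥ := by simp [upTo]

theorem upTo_mono (e : ℕ → G) {L L' : ℕ} (h : L ≤ L') : upTo e L ≤ upTo e L' :=
  Subgroup.closure_mono fun _ ⟨l, hl, hg⟩ => ⟨l, lt_of_lt_of_le hl h, hg⟩

/-- evaluation with letters out of range sent to one -/
def trim (e : ℕ → G) (L : ℕ) (l : ℕ) : G := if l < L then e l else 1

theorem trim_of_lt {e : ℕ → G} {L l : ℕ} (h : l < L) : trim e L l = e l := if_pos h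

theorem evalW_congr {e f : ℕ → G} {w : List ℕ} (h : ∀ l ∈ w, e l = f l) : evalW e w = evalW f w :=
  congrArg List.prod (List.map_congr_left h)

/-- all entries of a column are below `n` -/
noncomputable def ltCol (c n : ℕ) : ℕ → Bool
  | 0 => true
  | i + 1 => Nat.blt (cget c i) n && ltCol c n i

/-- all entries of the first `L` columns are below `n` -/
noncomputable def ltAll (L n : ℕ) (cols : List ℕ) : Bool :=
  (List.range L).all fun l => ltCol (cols.getD l 0) n n

theorem ltCol_sound {c n : ℕ} : ∀ {m : ℕ}, ltCol c n m = true → ∀ i, i < m → cget c i < n := by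
  intro m
  induction m with
  | zero => intro _ i hi; omega
  | succ m ih =>
    intro h i hi
    simp only [ltCol, Bool.and_eq_true, blt_iff] at h
    rcases Nat.lt_succ_iff_lt_or_eq.mp hi with hi | rfl
    · exact ih h.2 i hi
    · exact h.1

theorem ltAll_sound {L n : ℕ} {cols : List ℕ} (h : ltAll L n cols = true) :
    ∀ l, l < L → ∀ i, i < n → tget cols i l < n :=
  fun _ hl i hi => ltCol_sound (range_all h hl) i hi

/-- the fixed data of a table fit together -/
noncomputable def datOK (D : Dat) (L' : ℕ) : Bool :=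
  Nat.beq D.iv.length D.L && D.iv.all (fun x => Nat.blt x D.L) &&
    D.R.all (fun w => w.all fun l => Nat.blt l D.L) &&
    D.S.all (fun w => w.all fun l => Nat.blt l L') && Nat.ble L' D.L

/-- one step of an order bound -/
theorem table_bound {D : Dat} {e : ℕ → G} {L' n m : ℕ} {tree : List ℕ} {bs : List Blk}
    (hok : datOK D L' = true) (hinv : ∀ l, l < D.L → e (linv D.iv l) = (e l)⁻¹)
    (hR : ∀ w ∈ D.R, evalW e w = 1) (hlt : ltAll D.L n D.cols = true) (hn : 0 < n)
    (hc : closeCheck D n tree bs = true)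
    (hm : Finite (upTo e L') ∧ Nat.card (upTo e L') ≤ m) :
    Finite (upTo e D.L) ∧ Nat.card (upTo e D.L) ≤ n * m := by
  simp only [datOK, Bool.and_eq_true, List.all_eq_true, Nat.beq_eq, blt_iff, Nat.ble_eq] at hok
  obtain ⟨⟨⟨⟨hlen, hiv⟩, hRl⟩, hSl⟩, hle⟩ := hok
  have hlinv : ∀ l, l < D.L → linv D.iv l < D.L := by
    intro l hl
    rw [linv, List.getD_eq_getElem _ _ (hlen ▸ hl)]
    exact hiv _ (List.getElem_mem _)
  have hD : Hyp D (trim e D.L) (upTo e L') := by
    refine ⟨fun l => ?_, fun w hw => ?_, fun w hw => ?_⟩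
    · rcases Nat.lt_or_ge l D.L with h | h
      · rw [trim_of_lt h, trim_of_lt (hlinv l h), hinv l h]
      · have h1 : linv D.iv l = l := by
          rw [linv, List.getD_eq_getElem?_getD, List.getElem?_eq_none (hlen ▸ h)]; rfl
        rw [h1, trim, if_neg (by omega), inv_one]
    · rw [evalW_congr (f := e) fun l hl => trim_of_lt (hRl w hw l hl)]
      exact hR w hw
    · rw [evalW_congr (f := e) fun l hl => trim_of_lt (lt_of_lt_of_le (hSl w hw l hl) hle)]
      exact evalW_mem_upTo (hSl w hw)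
  obtain ⟨-, w, hw0, -, hw⟩ :=
    closeCheck_sound hD (E := ⊤) (fun _ _ => Subgroup.mem_top _) hc
  have := hm.1
  refine card_le_of_cosets (w := w) (cosets_exhaust (iv := D.iv) (L := D.L) (e := e) le_rfl
    (fun l hl => ⟨hlinv l hl, hinv l hl⟩) (ltAll_sound hlt) hn hw0 fun i hi l hl => ?_) hm.2
  simpa only [trim_of_lt hl] using hw i hi l hl

/-! ### equality from the images of a base -/

variable {L n : ℕ} {iv cols : List ℕ}

/-- elements of `Y` fixing all base points of a chain -/
def fixAt (Y : Subgroup (Equiv.Perm (Fin n))) : List Lvl → Subgroup (Equiv.Perm (Fin n))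
  | [] => Y
  | lv :: rest =>
    if h : lv.base < n then fixAt (Y ⊓ MulAction.stabilizer _ (⟨lv.base, h⟩ : Fin n)) rest
    else fixAt Y rest

theorem mem_fixAt : ∀ {lvs : List Lvl} {Y : Subgroup (Equiv.Perm (Fin n))}
    {x : Equiv.Perm (Fin n)}, x ∈ Y → (∀ lv ∈ lvs, ∀ h : lv.base < n, x ⟨lv.base, h⟩ = ⟨lv.base, h⟩) →
      x ∈ fixAt Y lvs := by
  intro lvs
  induction lvs with
  | nil => intro Y x hx _; exact hx
  | cons lv rest ih =>
    intro Y x hx hfix
    have hr : ∀ lv' ∈ rest, ∀ h : lv'.base < n, x ⟨lv'.base, h⟩ = ⟨lv'.base, h⟩ :=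
      fun lv' h' => hfix lv' (List.mem_cons_of_mem _ h')
    unfold fixAt
    split_ifs with h
    · exact ih (Subgroup.mem_inf.mpr ⟨hx, hfix lv List.mem_cons_self h⟩) hr
    · exact ih hx hr

theorem chain_stab (P : PT L n iv cols) : ∀ {lvs : List Lvl},
    chainCheck L n cols lvs = true → ∀ Y : Subgroup (Equiv.Perm (Fin n)),
      (∀ lv ∈ lvs, ∀ g ∈ lv.gens, evalW (sig P) g ∈ Y) →
        chainProd lvs * Nat.card (fixAt Y lvs) ≤ Nat.card Y := by
  intro lvs
  induction lvs with
  | nil => intro _ Y _; simp [chainProd, fixAt]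
  | cons lv rest ih =>
    intro h Y hY
    have hlet := chainCheck_letters h
    simp only [chainCheck, Bool.and_eq_true] at h
    obtain ⟨⟨⟨-, hfix⟩, horb⟩, hrest⟩ := h
    obtain ⟨hb, hcount⟩ := orbLow_sound P (hlet lv List.mem_cons_self) horb
    let b : Fin n := ⟨lv.base, hb⟩
    have h1 : chainProd rest * Nat.card (fixAt (Y ⊓ MulAction.stabilizer _ b) rest) ≤
        Nat.card (Y ⊓ MulAction.stabilizer _ b : Subgroup _) := by
      refine ih hrest _ fun lv' hlv' g hg => Subgroup.mem_inf.mpr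
        ⟨hY lv' (List.mem_cons_of_mem _ hlv') g hg, ?_⟩
      have h2 := (List.all_eq_true.mp ((List.all_eq_true.mp hfix) lv' hlv')) g hg
      simp only [Nat.beq_eq] at h2
      rw [MulAction.mem_stabilizer_iff, Equiv.Perm.smul_def, ← Equiv.Perm.eq_inv_iff_eq]
      apply Fin.ext
      rw [sig_walk P g (hlet lv' (List.mem_cons_of_mem _ hlv') g hg), ← walkC_map]
      exact h2.symm
    have h2 : Nat.card (MulAction.orbit Y b) * Nat.card (MulAction.stabilizer Y b) = Nat.card Y := by
      rw [← Nat.card_prod]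
      exact Nat.card_congr (MulAction.orbitProdStabilizerEquivGroup Y b)
    have h3 : Nat.card (MulAction.stabilizer Y b) =
        Nat.card (Y ⊓ MulAction.stabilizer (Equiv.Perm (Fin n)) b : Subgroup _) := by
      refine Nat.card_congr ⟨fun x => ⟨x.1.1, x.1.2, x.2⟩, fun x => ⟨⟨x.1, x.2.1⟩, x.2.2⟩,
        fun _ => rfl, fun _ => rfl⟩
    have hdef : fixAt Y (lv :: rest) = fixAt (Y ⊓ MulAction.stabilizer _ b) rest := by
      rw [fixAt, dif_pos hb]
    rw [hdef, chainProd, Nat.mul_assoc, ← h2, h3]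
    exact Nat.mul_le_mul (hcount Y fun g hg => hY lv List.mem_cons_self g hg) h1

/-- the pairs of a letter value and its permutation -/
def pairE (P : PT L n iv cols) (e : ℕ → G) (l : ℕ) : G × Equiv.Perm (Fin n) := (e l, sig P l)

theorem evalW_pair (P : PT L n iv cols) (e : ℕ → G) : ∀ w : List ℕ,
    evalW (pairE P e) w = (evalW e w, evalW (sig P) w) := by
  intro w
  induction w with
  | nil => simp [evalW, Prod.ext_iff]
  | cons x w ih => rw [evalW_cons, evalW_cons, evalW_cons, ih]; rfl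

theorem pairE_inv (P : PT L n iv cols) {e : ℕ → G}
    (he : ∀ l, l < L → e (linv iv l) = (e l)⁻¹) :
    ∀ l, l < L → pairE P e (linv iv l) = (pairE P e l)⁻¹ := by
  intro l hl
  simp [pairE, he l hl, sig_inv P hl]

theorem pairE_rel {R : List (List ℕ)} (h : permCheck L n iv cols R = true) {e : ℕ → G}
    (he : ∀ w ∈ R, evalW e w = 1) : ∀ w ∈ R, evalW (pairE (permCheck_PT h) e) w = 1 := by
  intro w hw
  rw [evalW_pair, he w hw, permCheck_rel h w hw]; rfl

/-- Words with the same images of a base have the same value. -/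
theorem eq_of_walks (P : PT L n iv cols) {e : ℕ → G} {N : ℕ}
    (hK : Finite (upTo (pairE P e) L) ∧ Nat.card (upTo (pairE P e) L) ≤ N) {lvs : List Lvl}
    (hc : chainCheck L n cols lvs = true) (hN : chainProd lvs = N) {u v : List ℕ}
    (hu : ∀ l ∈ u, l < L) (hv : ∀ l ∈ v, l < L)
    (hw : ∀ lv ∈ lvs, walkT cols u lv.base = walkT cols v lv.base) :
    evalW e u = evalW e v := by
  obtain ⟨hfin, hcard⟩ := hK
  let f : upTo (pairE P e) L →* Equiv.Perm (Fin n) :=
    (MonoidHom.snd G (Equiv.Perm (Fin n))).comp (upTo (pairE P e) L).subtype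
  have hgens : ∀ lv ∈ lvs, ∀ g ∈ lv.gens, evalW (sig P) g ∈ f.range := by
    intro lv hlv g hg
    refine ⟨⟨_, evalW_mem_upTo (e := pairE P e) (chainCheck_letters hc lv hlv g hg)⟩, ?_⟩
    simp [f, evalW_pair]
  have h1 := chain_stab P hc f.range hgens
  have h2 : Nat.card f.range ≤ Nat.card (upTo (pairE P e) L) :=
    Nat.card_le_card_of_surjective f.rangeRestrict f.rangeRestrict_surjective
  have hpos : 0 < N := lt_of_lt_of_le Nat.card_pos hcard
  rw [hN] at h1
  have hfix : Nat.card (fixAt f.range lvs) ≤ 1 := by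
    refine Nat.le_of_mul_le_mul_left ?_ hpos
    simpa using h1.trans (h2.trans hcard)
  have hr : Nat.card f.range = Nat.card (upTo (pairE P e) L) := by
    refine le_antisymm h2 (hcard.trans ?_)
    exact le_trans (Nat.le_mul_of_pos_right _ Nat.card_pos) h1
  have hinj : Function.Injective f.rangeRestrict :=
    ((Nat.bijective_iff_surjective_and_card _).mpr ⟨f.rangeRestrict_surjective, hr.symm⟩).1
  let k : upTo (pairE P e) L := ⟨_, evalW_mem_upTo (e := pairE P e) hu⟩
  let k' : upTo (pairE P e) L := ⟨_, evalW_mem_upTo (e := pairE P e) hv⟩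
  have hmem : f k * (f k')⁻¹ ∈ fixAt f.range lvs := by
    refine mem_fixAt (mul_mem ⟨k, rfl⟩ (inv_mem ⟨k', rfl⟩)) fun lv hlv h => ?_
    have e1 : (evalW (sig P) u)⁻¹ ⟨lv.base, h⟩ = (evalW (sig P) v)⁻¹ ⟨lv.base, h⟩ := by
      apply Fin.ext
      rw [sig_walk P u hu, sig_walk P v hv]
      exact hw lv hlv
    have e2 : f k * (f k')⁻¹ = evalW (sig P) u * (evalW (sig P) v)⁻¹ := by
      simp [f, k, k', evalW_pair]
    rw [e2, Equiv.Perm.mul_apply, ← e1]
    simp
  have h4 : f k = f k' := by
    have hsub : Subsingleton (fixAt f.range lvs) :=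
      (Finite.card_le_one_iff_subsingleton).mp hfix
    have h5 := congrArg Subtype.val (Subsingleton.elim (⟨_, hmem⟩ : fixAt f.range lvs) 1)
    exact mul_inv_eq_one.mp h5
  have h6 : k = k' := hinj (Subtype.ext h4)
  have h7 := congrArg (fun z : upTo (pairE P e) L => (z : G × Equiv.Perm (Fin n)).1) h6
  simpa [k, k', evalW_pair] using h7

end Cfsg.Agent.H25.Th
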